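import Cfsg.Agent.H43.LFi.Check
import Cfsg.Agent.H41.LFi.Orbits
import Cfsg.Prelude.Def_Transfer

/-!
A subgroup of order 128 of the model, its two elementary abelian subgroups of order sixteen, and the
set of 64 vectors fixed by the second of them.
-/

set_option autoImplicit false
set_option maxRecDepth 20000

namespace Cfsg.Agent.H43.LFi

open Cfsg Cfsg.Agent.Compute Cfsg.Agent.Unitary Cfsg.Agent.H41.SUSix Cfsg.Agent.H41.LFi Matrix

theorem gL_dV {i : ℕ} (hi : i < 7) (v : ℕ) : wP (gL i) (dV v) = dV (wApC (gL i) v) :=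
  wP_dV _ (gl_ok i hi) v

theorem ebitP_dV (k : ℕ) {i : ℕ} (hi : i < 7) (v : ℕ) :
    ebitP k i (dV v) = dV (ebitC k i v) := by
  unfold ebitP ebitC
  cases Nat.beq (getP 1 k i) 1
  · rfl
  · exact gL_dV hi v

theorem eP_eApC (k v : ℕ) : eP k (dV v) = dV (eApC k v) := by
  simp (config := { decide := true }) only [eP, eApC, Equiv.Perm.mul_apply, ebitP_dV]

theorem semi_ebitP (k i : ℕ) : Semi false (ebitP k i) := by
  unfold ebitP
  cases Nat.beq (getP 1 k i) 1
  · exact semi_id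
  · exact semi_wP _

theorem semi_eP (k : ℕ) : Semi false (eP k) :=
  ((((((semi_ebitP k 0).comp (semi_ebitP k 1)).comp (semi_ebitP k 2)).comp (semi_ebitP k 3)).comp
    (semi_ebitP k 4)).comp (semi_ebitP k 5)).comp (semi_ebitP k 6)

theorem ebitP_mem (k i : ℕ) : ebitP k i ∈ Kl := by
  unfold ebitP
  cases Nat.beq (getP 1 k i) 1
  · exact one_mem _
  · exact wP_mem _

theorem eP_mem (k : ℕ) : eP k ∈ Kl :=
  mul_mem (mul_mem (mul_mem (mul_mem (mul_mem (mul_mem (ebitP_mem k 0) (ebitP_mem k 1))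
    (ebitP_mem k 2)) (ebitP_mem k 3)) (ebitP_mem k 4)) (ebitP_mem k 5)) (ebitP_mem k 6)

theorem semi_mulVec (M : Mat) : Semi false (fun u : Vec => M *ᵥ u) :=
  ⟨fun u v => Matrix.mulVec_add M u v, fun c u => Matrix.mulVec_smul M c u⟩

theorem eP_dV {k : ℕ} (hk : k < 128) (v : ℕ) : eP k (dV v) = dV (mulVecC (mC k) v) := by
  have h : (eP k : Vec → Vec) = fun u => dM (mC k) *ᵥ u := by
    refine semi_ext_code (semi_eP k) (semi_mulVec _) fun b hb => ?_
    have h := (allN_iff _ _).1 ((allN_iff _ _).1 el_ok k hk) b hb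
    simp only [Bool.and_eq_true, Nat.beq_eq] at h
    rw [eP_eApC, ← h.1, dV_mulVecC]
  rw [h, dV_mulVecC]

theorem eP_key {k : ℕ} (hk : k < 128) {b : ℕ} (hb : b < 6) :
    eP k (dV (bC b)) = dV (getP 12 (keyC k) b) := by
  have h := (allN_iff _ _).1 ((allN_iff _ _).1 el_ok k hk) b hb
  simp only [Bool.and_eq_true, Nat.beq_eq] at h
  rw [eP_dV hk, h.2]

theorem eP_inj {k l : ℕ} (hk : k < 128) (hl : l < 128) (h : eP k = eP l) : k = l := by
  have hh := (allN_iff _ _).1 ((allN_iff _ _).1 key_inj k hk) l hl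
  rw [Bool.or_eq_true, Nat.beq_eq] at hh
  rcases hh with hh | hh
  · exact hh
  · exfalso
    rw [Bool.not_eq_true', ← Bool.not_eq_true, allN_iff] at hh
    refine hh fun b hb => ?_
    rw [Nat.beq_eq]
    refine dV_inj (getP_lt 12 _ _) (getP_lt 12 _ _) ?_
    rw [← eP_key hk hb, ← eP_key hl hb, h]

theorem rm_lt {k i : ℕ} (hk : k < 128) (hi : i < 7) : rmC k i < 128 := by
  have h := (allN_iff _ _).1 ((allN_iff _ _).1 rm_ok k hk) i hi
  rw [Bool.and_eq_true, Nat.ble_eq] at h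
  omega

theorem eP_rm {k i : ℕ} (hk : k < 128) (hi : i < 7) : eP k * wP (gL i) = eP (rmC k i) := by
  refine perm_ext_code (θ := false) ((semi_eP k).comp (semi_wP _)) (semi_eP _) fun b hb => ?_
  have h := (allN_iff _ _).1 ((allN_iff _ _).1 rm_ok k hk) i hi
  rw [Bool.and_eq_true, allN_iff] at h
  have e := h.2 b hb
  rw [Nat.beq_eq] at e
  rw [Equiv.Perm.mul_apply, gL_dV hi, eP_dV hk, e, eP_key (rm_lt hk hi) hb]

theorem eP_rb (l : ℕ) {k i : ℕ} (hk : k < 128) (hi : i < 7) :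
    eP k * ebitP l i = eP (rbC l k i) ∧ rbC l k i < 128 := by
  unfold ebitP rbC
  cases Nat.beq (getP 1 l i) 1
  · exact ⟨mul_one _, hk⟩
  · exact ⟨eP_rm hk hi, rm_lt hk hi⟩

theorem eP_mul' {k : ℕ} (hk : k < 128) (l : ℕ) :
    eP k * eP l = eP (mulS k l) ∧ mulS k l < 128 := by
  obtain ⟨e0, h0⟩ := eP_rb l hk (show 0 < 7 by norm_num)
  obtain ⟨e1, h1⟩ := eP_rb l h0 (show 1 < 7 by norm_num)
  obtain ⟨e2, h2⟩ := eP_rb l h1 (show 2 < 7 by norm_num)
  obtain ⟨e3, h3⟩ := eP_rb l h2 (show 3 < 7 by norm_num)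
  obtain ⟨e4, h4⟩ := eP_rb l h3 (show 4 < 7 by norm_num)
  obtain ⟨e5, h5⟩ := eP_rb l h4 (show 5 < 7 by norm_num)
  obtain ⟨e6, h6⟩ := eP_rb l h5 (show 6 < 7 by norm_num)
  refine ⟨?_, h6⟩
  show eP k * (ebitP l 0 * ebitP l 1 * ebitP l 2 * ebitP l 3 * ebitP l 4 * ebitP l 5 * ebitP l 6) = _
  simp only [← mul_assoc, e0, e1, e2, e3, e4, e5, e6]
  rfl

theorem eP_mul {k l : ℕ} (hk : k < 128) : eP k * eP l = eP (mulS k l) := (eP_mul' hk l).1

theorem mulS_lt {k l : ℕ} (hk : k < 128) : mulS k l < 128 := (eP_mul' hk l).2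

theorem eP_zero : eP 0 = 1 := by
  have h : ∀ i, ebitP 0 i = 1 := fun i => by
    have e : getP 1 0 i = 0 := by rw [getP_eq]; simp
    unfold ebitP
    rw [e]
    rfl
  simp [eP, h]

theorem eP_ne_one {k : ℕ} (hk : k < 128) (h0 : k ≠ 0) : eP k ≠ 1 :=
  fun h => h0 (eP_inj hk (by norm_num) (h.trans eP_zero.symm))

theorem eP_commute {k l : ℕ} (hk : k < 128) (hl : l < 128) :
    eP k * eP l = eP l * eP k ↔ mulS k l = mulS l k := by
  rw [eP_mul hk, eP_mul hl]
  exact ⟨eP_inj (mulS_lt hk) (mulS_lt hl), congrArg eP⟩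

theorem eP_sq {k : ℕ} (hk : k < 128) : eP k * eP k = 1 ↔ mulS k k = 0 := by
  rw [eP_mul hk, ← eP_zero]
  exact ⟨eP_inj (mulS_lt hk) (by norm_num), congrArg eP⟩

/-- The elements of the subgroup, as a set closed under products. -/
noncomputable def Ssub : Submonoid (Equiv.Perm Vec) where
  carrier := {a | ∃ k < 128, a = eP k}
  one_mem' := ⟨0, by norm_num, eP_zero.symm⟩
  mul_mem' := by
    rintro _ _ ⟨k, hk, rfl⟩ ⟨l, -, rfl⟩
    exact ⟨_, mulS_lt hk, eP_mul hk⟩

/-- The subgroup of order 128. -/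
noncomputable def Sgrp : Subgroup (Equiv.Perm Vec) where
  toSubmonoid := Ssub
  inv_mem' {x} hx := by
    rw [inv_eq_of_mul_eq_one_right (show x * x ^ (orderOf x - 1) = 1 by
      rw [← pow_succ', Nat.sub_add_cancel (orderOf_pos x), pow_orderOf_eq_one])]
    exact pow_mem (show x ∈ Ssub from hx) _

theorem mem_S {a : Equiv.Perm Vec} : a ∈ Sgrp ↔ ∃ k < 128, a = eP k := Iff.rfl

theorem card_S : Nat.card Sgrp = 128 := by
  rw [← Nat.card_fin 128]
  refine (Nat.card_congr (Equiv.ofBijective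
    (fun k : Fin 128 => (⟨eP k, k, k.2, rfl⟩ : ↥Sgrp)) ⟨?_, ?_⟩)).symm
  · exact fun i j e => Fin.ext (eP_inj i.2 j.2 (congrArg Subtype.val e))
  · rintro ⟨_, k, hk, rfl⟩
    exact ⟨⟨k, hk⟩, rfl⟩

theorem S_le : Sgrp ≤ Kl := by
  rintro _ ⟨k, -, rfl⟩
  exact eP_mem k

/-! ### The second group of order sixteen -/

theorem bIdx_lt : ∀ j < 16, bIdx j < 128 := by decide +kernel

theorem bIdx_inj : ∀ i < 16, ∀ j < 16, bIdx i = bIdx j → i = j := by decide +kernel

theorem inB_iff : ∀ k < 128, inB k = true ↔ ∃ j < 16, k = bIdx j := by decide +kernel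

theorem b_facts {i j : ℕ} (hi : i < 16) (hj : j < 16) :
    (∃ l < 16, eP (bIdx i) * eP (bIdx j) = eP (bIdx l)) ∧
      eP (bIdx i) * eP (bIdx j) = eP (bIdx j) * eP (bIdx i) ∧ eP (bIdx i) * eP (bIdx i) = 1 := by
  have h := (allN_iff _ _).1 b_grp i hi
  simp only [Bool.and_eq_true, allN_iff, Nat.beq_eq] at h
  obtain ⟨h1, h2⟩ := h
  obtain ⟨ha, hc⟩ := h1 j hj
  obtain ⟨l, hl, e⟩ := (inB_iff _ (mulS_lt (bIdx_lt i hi))).1 ha
  exact ⟨⟨l, hl, by rw [eP_mul (bIdx_lt i hi), e]⟩,
    (eP_commute (bIdx_lt i hi) (bIdx_lt j hj)).2 hc, (eP_sq (bIdx_lt i hi)).2 h2⟩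

theorem bIdx_zero : bIdx 0 = 0 := by decide +kernel

/-- The second elementary abelian group of order sixteen. -/
noncomputable def Bgrp : Subgroup (Equiv.Perm Vec) where
  carrier := {a | ∃ j < 16, a = eP (bIdx j)}
  one_mem' := ⟨0, by norm_num, by rw [bIdx_zero, eP_zero]⟩
  mul_mem' := by
    rintro _ _ ⟨i, hi, rfl⟩ ⟨j, hj, rfl⟩
    exact (b_facts hi hj).1
  inv_mem' := by
    rintro _ ⟨i, hi, rfl⟩
    exact ⟨i, hi, inv_eq_of_mul_eq_one_right (b_facts hi hi).2.2⟩

theorem card_B : Nat.card Bgrp = 16 := by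
  rw [← Nat.card_fin 16]
  refine (Nat.card_congr (Equiv.ofBijective
    (fun j : Fin 16 => (⟨eP (bIdx j), j, j.2, rfl⟩ : ↥Bgrp)) ⟨?_, ?_⟩)).symm
  · exact fun i j e => Fin.ext (bIdx_inj i i.2 j j.2
      (eP_inj (bIdx_lt i i.2) (bIdx_lt j j.2) (congrArg Subtype.val e)))
  · rintro ⟨_, j, hj, rfl⟩
    exact ⟨⟨j, hj⟩, rfl⟩

theorem B_le_S : Bgrp ≤ Sgrp := by
  rintro _ ⟨j, hj, rfl⟩
  exact ⟨_, bIdx_lt j hj, rfl⟩

theorem B_elementary : IsElementaryAbelian 2 Bgrp := by
  refine ⟨⟨⟨?_⟩⟩, ?_⟩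
  · rintro ⟨_, i, hi, rfl⟩ ⟨_, j, hj, rfl⟩
    exact Subtype.ext (b_facts hi hj).2.1
  · rintro _ ⟨i, hi, rfl⟩
    rw [pow_two]
    exact (b_facts hi hi).2.2

/-! ### Elementary abelian subgroups of order at least sixteen -/

theorem cntC_eq (m : ℕ) :
    cntC m = ((Finset.range 128).filter (fun i => getP 1 m i = 1)).card := by
  suffices h : ∀ n, (Nat.rec 0 (fun i acc => Nat.add acc (getP 1 m i)) n : ℕ) =
      ((Finset.range n).filter (fun i => getP 1 m i = 1)).card from h 128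
  intro n
  induction n with
  | zero => rfl
  | succ n ih =>
    show Nat.rec 0 (fun i acc => Nat.add acc (getP 1 m i)) n + getP 1 m n = _
    rw [ih, Finset.range_add_one, Finset.filter_insert]
    have := getP_lt 1 m n
    split_ifs with h
    · rw [Finset.card_insert_of_notMem (by simp), h]
    · omega

theorem getP_one_land (a b i : ℕ) :
    getP 1 (Nat.land a b) i = 1 ↔ getP 1 a i = 1 ∧ getP 1 b i = 1 := by
  have e : ∀ a, getP 1 a i = 1 ↔ a.testBit i = true := fun a => by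
    rw [getP_eq, one_mul, pow_one, Nat.testBit_eq_decide_div_mod_eq]
    simp
  rw [e, e, e, show Nat.land a b = a &&& b from rfl, Nat.testBit_and, Bool.and_eq_true]

theorem mask {k l : ℕ} (hk : k < 128) (hl : l < 128) (h1 : eP k * eP k = 1)
    (h2 : eP l * eP l = 1) (h3 : eP k * eP l = eP l * eP k) : getP 1 (cmC k) l = 1 := by
  have h := (allN_iff _ _).1 ((allN_iff _ _).1 mask_ok k hk) l hl
  rw [eP_sq hk] at h1
  rw [eP_sq hl] at h2
  rw [eP_commute hk hl] at h3
  rw [h1, h2, h3, show Nat.beq 0 0 = true from rfl,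
    show Nat.beq (mulS l k) (mulS l k) = true by rw [Nat.beq_eq]] at h
  simpa [Nat.beq_eq] using h

/-- An elementary abelian subgroup of order at least sixteen is one of the two groups. -/
theorem classify {R : Subgroup (Equiv.Perm Vec)} (hR : R ≤ Sgrp)
    (hc : ∀ a ∈ R, ∀ b ∈ R, a * b = b * a) (h2 : ∀ a ∈ R, a * a = 1) (h16 : 16 ≤ Nat.card R) :
    Nat.card R = 16 ∧ (R = Bgrp ∨ ∀ k < 16, eP k ∈ R) := by
  classical
  set T := (Finset.range 128).filter (fun k => eP k ∈ R) with hT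
  have hcard : T.card = Nat.card R := by
    rw [← Nat.card_eq_finsetCard]
    refine Nat.card_congr (Equiv.ofBijective
      (fun k : ↥T => (⟨eP k, (Finset.mem_filter.1 k.2).2⟩ : ↥R)) ⟨?_, ?_⟩)
    · exact fun a b e => Subtype.ext (eP_inj (Finset.mem_range.1 (Finset.mem_filter.1 a.2).1)
        (Finset.mem_range.1 (Finset.mem_filter.1 b.2).1) (congrArg Subtype.val e))
    · rintro ⟨a, ha⟩
      obtain ⟨k, hk, rfl⟩ := hR ha
      exact ⟨⟨k, Finset.mem_filter.2 ⟨Finset.mem_range.2 hk, ha⟩⟩, rfl⟩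
  have hmem : ∀ k ∈ T, k < 128 ∧ eP k ∈ R := fun k hk =>
    ⟨Finset.mem_range.1 (Finset.mem_filter.1 hk).1, (Finset.mem_filter.1 hk).2⟩
  have hAB : (∀ k ∈ T, inA k = true) ∨ ∀ k ∈ T, inB k = true := by
    by_contra hno
    rw [not_or, not_forall, not_forall] at hno
    obtain ⟨⟨x, hx⟩, ⟨y, hy⟩⟩ := hno
    rw [not_forall] at hx hy
    obtain ⟨hxT, hxA⟩ := hx
    obtain ⟨hyT, hyB⟩ := hy
    obtain ⟨hx1, hx2⟩ := hmem x hxT
    obtain ⟨hy1, hy2⟩ := hmem y hyT
    have h := (allN_iff _ _).1 clique_ok x hx1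
    simp only [Bool.or_eq_true, Bool.not_eq_true', allN_iff] at h
    rcases h with (h | h) | h
    · exact hxA h
    · rw [(eP_sq hx1).1 (h2 _ hx2)] at h
      exact Bool.noConfusion h
    · rcases h y hy1 with (h' | h') | h'
      · exact hyB h'
      · rw [mask hx1 hy1 (h2 _ hx2) (h2 _ hy2) (hc _ hx2 _ hy2)] at h'
        exact Bool.noConfusion h'
      · rw [Nat.ble_eq, cntC_eq] at h'
        have hsub : T ⊆ (Finset.range 128).filter
            (fun i => getP 1 (Nat.land (cmC x) (cmC y)) i = 1) := by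
          intro k hk
          obtain ⟨hk1, hk2⟩ := hmem k hk
          rw [Finset.mem_filter, Finset.mem_range, getP_one_land]
          exact ⟨hk1, mask hx1 hk1 (h2 _ hx2) (h2 _ hk2) (hc _ hx2 _ hk2),
            mask hy1 hk1 (h2 _ hy2) (h2 _ hk2) (hc _ hy2 _ hk2)⟩
        have := Finset.card_le_card hsub
        omega
  rcases hAB with h | h
  · have hsub : T ⊆ Finset.range 16 := fun k hk => by
      have := h k hk
      rw [inA, Nat.ble_eq] at this
      exact Finset.mem_range.2 (by omega)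
    have h16' : (Finset.range 16).card ≤ T.card := by rw [Finset.card_range]; omega
    have e := Finset.eq_of_subset_of_card_le hsub h16'
    refine ⟨by rw [← hcard, e, Finset.card_range], Or.inr fun k hk => ?_⟩
    exact (hmem k (by rw [e]; exact Finset.mem_range.2 hk)).2
  · have hle : R ≤ Bgrp := by
      intro a ha
      obtain ⟨k, hk, rfl⟩ := hR ha
      obtain ⟨j, hj, e⟩ := (inB_iff k hk).1
        (h k (Finset.mem_filter.2 ⟨Finset.mem_range.2 hk, ha⟩))
      exact ⟨j, hj, by rw [e]⟩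
    have e := Subgroup.eq_of_le_of_card_ge hle (by rw [card_B]; exact h16)
    exact ⟨by rw [e, card_B], Or.inl e⟩

/-! ### Fixed vectors -/

/-- The vectors moved by a semilinear map as the values of an additive map. -/
def moveHom {θ : Bool} {a : Vec → Vec} (ha : Semi θ a) : Vec →+ Vec :=
  AddMonoidHom.mk' (fun u => a u + u) fun u v => by rw [ha.add]; abel

theorem vec_add_self (u : Vec) : u + u = 0 := funext fun i => k4_add_self (u i)
  where k4_add_self : ∀ c : K4, c + c = 0 := by decide +kernel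

theorem vec_eq_of_add {u v : Vec} (h : u + v = 0) : u = v := by
  rw [← add_zero u, ← vec_add_self v, ← add_assoc, h, zero_add]

/-- A set killed by an additive map taking `N` values has at most `4096 / N` elements. -/
theorem card_kill {M : Type*} [AddCommGroup M] (f : Vec →+ M) (N : ℕ) (w : Fin N → Vec)
    (hw : Function.Injective fun c => f (w c)) {W : Set Vec} (hW : ∀ u ∈ W, f u = 0) :
    Nat.card W * N ≤ 4096 := by
  classical
  haveI : Finite f.range := Finite.of_surjective f.rangeRestrict f.rangeRestrict_surjective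
  have h := AddSubgroup.card_mul_index f.ker
  rw [AddSubgroup.index_ker] at h
  have hv : Nat.card Vec = 4096 := by
    rw [Nat.card_eq_fintype_card, Fintype.card_fun, Fintype.card_fin]
    decide
  rw [hv] at h
  have h1 : Nat.card W ≤ Nat.card f.ker :=
    Nat.card_le_card_of_injective (fun u => (⟨u.1, hW u.1 u.2⟩ : ↥f.ker))
      fun a b e => Subtype.ext (congrArg Subtype.val e :)
  have h2 : N ≤ Nat.card f.range := by
    have := Nat.card_le_card_of_injective (fun c : Fin N => (⟨f (w c), _, rfl⟩ : ↥f.range))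
      (fun a b e => hw (congrArg Subtype.val e))
    rwa [Nat.card_fin] at this
  exact h ▸ Nat.mul_le_mul h1 h2

theorem moveHom_dV {k : ℕ} (hk : k < 128) (v : ℕ) :
    moveHom (semi_eP k) (dV v) = dV (mvC k v) := by
  show eP k (dV v) + dV v = _
  rw [eP_dV hk, mvC, dV_xor]

theorem combC_lt (a b d c : ℕ) : combC a b d c < 4096 :=
  xor_lt (scalC_lt _ _) (xor_lt (scalC_lt _ _) (scalC_lt _ _))

theorem mvC_lt {k v : ℕ} (hv : v < 4096) : mvC k v < 4096 := xor_lt (mulVecC_lt _ _) hv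

/-- A non-trivial involution of the subgroup fixes at most 256 vectors. -/
theorem fix_invol {k : ℕ} (hk : k < 128) (h0 : k ≠ 0) (h : eP k * eP k = 1) :
    Nat.card {u : Vec | eP k u = u} ≤ 256 := by
  have hm := (allN_iff _ _).1 move_ok k hk
  simp only [Bool.or_eq_true, Nat.beq_eq, Bool.not_eq_true', allN_iff] at hm
  rcases hm with (hm | hm) | hm
  · exact absurd hm h0
  · rw [(eP_sq hk).1 h] at hm
    exact Bool.noConfusion hm
  · have := card_kill (moveHom (semi_eP k)) 16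
      (fun c => dV (combC (getP 3 (getP 6 pairTab k) 0) (getP 3 (getP 6 pairTab k) 1) 0 c))
      (fun c d e => by
        simp only [moveHom_dV hk] at e
        have e' := dV_inj (mvC_lt (combC_lt _ _ _ _)) (mvC_lt (combC_lt _ _ _ _)) e
        rcases hm c c.2 d d.2 with h' | h'
        · exact Fin.ext h'
        · rw [e', ← Bool.not_eq_true, Nat.beq_eq] at h'
          exact absurd rfl h')
      (W := {u : Vec | eP k u = u})
      (fun u hu => by
        show eP k u + u = 0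
        rw [show eP k u = u from hu]
        exact vec_add_self u)
    omega

/-- The four differences as one additive map. -/
noncomputable def moveB : Vec →+ (Fin 4 → Vec) :=
  AddMonoidHom.mk' (fun u i => moveHom (semi_eP (bIdx (2 ^ i.1))) u)
    fun u v => funext fun _ => map_add _ u v

/-- The four differences for the first group as one additive map. -/
noncomputable def moveA : Vec →+ (Fin 4 → Vec) :=
  AddMonoidHom.mk' (fun u i => moveHom (semi_eP (2 ^ i.1)) u)
    fun u v => funext fun _ => map_add _ u v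

theorem two_pow_lt {i : ℕ} (hi : i < 4) : 2 ^ i < 16 :=
  Nat.pow_lt_pow_right (show 1 < 2 by norm_num) hi

theorem fix_A : Nat.card {u : Vec | ∀ k < 16, eP k u = u} ≤ 16 := by
  have hlt : ∀ c, combA c < 4096 := fun c => xor_lt (combC_lt _ _ _ _) (scalC_lt _ _)
  have := card_kill moveA 256 (fun c => dV (combA c))
    (fun c d e => by
      have h := (allN_iff _ _).1 ((allN_iff _ _).1 moveA_ok c c.2) d d.2
      simp only [Bool.or_eq_true, Nat.beq_eq, Bool.not_eq_true'] at h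
      rcases h with h | h
      · exact Fin.ext h
      · exfalso
        rw [← Bool.not_eq_true, Nat.beq_eq] at h
        refine h (packP_congr 12 4 fun i hi => ?_)
        have e' := congrFun e ⟨i, hi⟩
        change moveHom (semi_eP (2 ^ i)) _ = moveHom (semi_eP (2 ^ i)) _ at e'
        rw [moveHom_dV (by have := two_pow_lt hi; omega),
          moveHom_dV (by have := two_pow_lt hi; omega)] at e'
        exact dV_inj (mvC_lt (hlt c)) (mvC_lt (hlt d)) e')
    (W := {u : Vec | ∀ k < 16, eP k u = u})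
    (fun u hu => funext fun i => by
      show eP _ u + u = 0
      rw [hu _ (two_pow_lt i.2)]
      exact vec_add_self u)
  omega

/-- The vectors fixed by the second group. -/
noncomputable def Uset : AddSubgroup Vec := moveB.ker

theorem mem_U {u : Vec} : u ∈ Uset ↔ ∀ i : Fin 4, eP (bIdx (2 ^ i.1)) u = u := by
  constructor
  · intro h i
    exact vec_eq_of_add (congrFun (AddMonoidHom.mem_ker.1 h) i)
  · intro h
    refine AddMonoidHom.mem_ker.2 (funext fun i => ?_)
    show eP _ u + u = 0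
    rw [h i]
    exact vec_add_self u

theorem u_facts {i : ℕ} (hi : i < 64) : uC i < 4096 ∧ clsC (uC i) ≠ 1 ∧ dV (uC i) ∈ Uset ∧
    ∀ j < 64, uC i = uC j → i = j := by
  have h := (allN_iff _ _).1 u_ok i hi
  simp only [Bool.and_eq_true, Nat.ble_eq, Bool.not_eq_true', allN_iff, Bool.or_eq_true,
    Nat.beq_eq] at h
  obtain ⟨⟨⟨h1, h2⟩, h3⟩, h4⟩ := h
  have h1' : uC i < 4096 := by omega
  refine ⟨h1', fun e => ?_, mem_U.2 fun b => ?_, fun j hj e => ?_⟩
  · rw [e] at h2
    exact Bool.noConfusion h2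
  · have hb := two_pow_lt b.2
    refine vec_eq_of_add ?_
    have e : mvC (bIdx (2 ^ b.1)) (uC i) = 0 := h3 b b.2
    rw [show eP _ (dV (uC i)) + dV (uC i) = moveHom (semi_eP _) (dV (uC i)) from rfl,
      moveHom_dV (bIdx_lt _ hb), e, dV_zero]
  · rcases h4 j hj with h | h
    · exact h
    · rw [e, ← Bool.not_eq_true, Nat.beq_eq] at h
      exact absurd rfl h

theorem card_U : Nat.card Uset = 64 := by
  refine le_antisymm ?_ ?_
  · have := card_kill moveB 64 (fun c => dV (combC 0 1 2 c))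
      (fun c d e => by
        have h := (allN_iff _ _).1 ((allN_iff _ _).1 moveB_ok c c.2) d d.2
        simp only [Bool.or_eq_true, Nat.beq_eq, Bool.not_eq_true'] at h
        rcases h with h | h
        · exact Fin.ext h
        · exfalso
          rw [← Bool.not_eq_true, Nat.beq_eq] at h
          refine h (packP_congr 12 4 fun i hi => ?_)
          have e' := congrFun e ⟨i, hi⟩
          change moveHom (semi_eP (bIdx (2 ^ i))) _ = moveHom (semi_eP (bIdx (2 ^ i))) _ at e'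
          rw [moveHom_dV (bIdx_lt _ (two_pow_lt hi)), moveHom_dV (bIdx_lt _ (two_pow_lt hi))] at e'
          exact dV_inj (mvC_lt (combC_lt _ _ _ _)) (mvC_lt (combC_lt _ _ _ _)) e')
      (W := (Uset : Set Vec)) (fun u hu => hu)
    show Nat.card (Uset : Set Vec) ≤ 64
    omega
  · rw [← Nat.card_fin 64]
    exact Nat.card_le_card_of_injective (fun i : Fin 64 => (⟨dV (uC i), (u_facts i.2).2.2.1⟩ : ↥Uset))
      fun i j e => Fin.ext ((u_facts i.2).2.2.2 j j.2
        (dV_inj (u_facts i.2).1 (u_facts j.2).1 (congrArg Subtype.val e)))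

theorem U_list {u : Vec} (hu : u ∈ Uset) : ∃ i < 64, u = dV (uC i) := by
  have hb : Function.Bijective (fun i : Fin 64 => (⟨dV (uC i), (u_facts i.2).2.2.1⟩ : ↥Uset)) := by
    rw [Nat.bijective_iff_injective_and_card, Nat.card_fin, card_U]
    exact ⟨fun i j e => Fin.ext ((u_facts i.2).2.2.2 j j.2
      (dV_inj (u_facts i.2).1 (u_facts j.2).1 (congrArg Subtype.val e))), rfl⟩
  obtain ⟨i, hi⟩ := hb.2 ⟨u, hu⟩
  exact ⟨i, i.2, (congrArg Subtype.val hi).symm⟩

/-- The fixed vectors are isotropic. -/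
theorem U_herm {u : Vec} (hu : u ∈ Uset) : cls u ≠ 1 := by
  obtain ⟨i, hi, rfl⟩ := U_list hu
  rw [cls, eV_dV (u_facts hi).1]
  exact (u_facts hi).2.1

/-- A generator of the second group, or not, along a bit, as an index. -/
noncomputable def bbIdx (j i : ℕ) : ℕ := cond (Nat.beq (getP 1 j i) 1) (bIdx (Nat.pow 2 i)) 0

theorem bb_lt : ∀ j < 16, ∀ i < 4, bbIdx j i < 128 := by decide +kernel

theorem b_decomp : ∀ j < 16,
    mulS (mulS (mulS (bbIdx j 0) (bbIdx j 1)) (bbIdx j 2)) (bbIdx j 3) = bIdx j := by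
  decide +kernel

theorem B_fixes_U {b : Equiv.Perm Vec} (hb : b ∈ Bgrp) {u : Vec} (hu : u ∈ Uset) : b u = u := by
  obtain ⟨j, hj, rfl⟩ := hb
  have hg : ∀ i < 4, eP (bbIdx j i) u = u := by
    intro i hi
    unfold bbIdx
    cases Nat.beq (getP 1 j i) 1
    · rw [cond_false, eP_zero]
      rfl
    · exact (mem_U.1 hu) ⟨i, hi⟩
  have h0 := bb_lt j hj 0 (by norm_num)
  rw [← b_decomp j hj, ← eP_mul (mulS_lt (mulS_lt h0)), ← eP_mul (mulS_lt h0), ← eP_mul h0]
  simp only [Equiv.Perm.mul_apply]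
  rw [hg 3 (by norm_num), hg 2 (by norm_num), hg 1 (by norm_num), hg 0 (by norm_num)]

/-! ### The normalising words -/

theorem sig_lt (l j : ℕ) : sigC l j < 16 := getP_lt 4 _ _

attribute [local irreducible] mC sigC bIdx wApC mulVecC wP eP

/-- A normalising element. -/
noncomputable def nP (l : ℕ) : Equiv.Perm Vec := wP (nL l)

theorem nP_mem (l : ℕ) : nP l ∈ Kl := wP_mem _

theorem nP_U {l : ℕ} (hl : l < 5) {u : Vec} (hu : u ∈ Uset) : nP l u ∈ Uset := by
  obtain ⟨i, hi, rfl⟩ := U_list hu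
  refine mem_U.2 fun b => vec_eq_of_add ?_
  have e := (allN_iff _ _).1 ((allN_iff _ _).1 ((allN_iff _ _).1 n_U l hl) i hi) b b.2
  rw [Nat.beq_eq] at e
  have e' : mvC (bIdx (2 ^ b.1)) (wApC (nL l) (uC i)) = 0 := e
  rw [show ∀ (k : ℕ) (v : Vec), eP k v + v = moveHom (semi_eP k) v from fun _ _ => rfl, nP,
    wP_dV _ (nl_ok l hl), moveHom_dV (bIdx_lt _ (two_pow_lt b.2)), e', dV_zero]

theorem nP_B {l : ℕ} (hl : l < 5) {j : ℕ} (hj : j < 16) :
    nP l * eP (bIdx j) = eP (bIdx (sigC l j)) * nP l := by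
  have e := (allN_iff _ _).1 ((allN_iff _ _).1 n_B l hl) j hj
  rw [allN_iff] at e
  have key : ∀ (w : List ℕ) (k k' : ℕ), (∀ x ∈ w, x < 18) → k < 128 → k' < 128 →
      (∀ b < 6, wApC w (mulVecC (mC k) (bC b)) = mulVecC (mC k') (wApC w (bC b))) →
      wP w * eP k = eP k' * wP w := by
    intro w k k' hw hk hk' h
    refine perm_ext_code (θ := false) ((semi_wP _).comp (semi_eP _)) ((semi_eP _).comp (semi_wP _))
      fun b hb => ?_
    simp only [Equiv.Perm.mul_apply]
    rw [eP_dV hk, wP_dV _ hw, wP_dV _ hw, eP_dV hk', h b hb]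
  exact key _ _ _ (nl_ok l hl) (bIdx_lt j hj) (bIdx_lt _ (sig_lt l j))
    fun b hb => Nat.eq_of_beq_eq_true (e b hb)

/-- A function invariant under the normalising words is constant on the non-zero indices. -/
theorem sig_const {X : Type*} (f : ℕ → X) (h : ∀ l < 5, ∀ j < 16, f (sigC l j) = f j) :
    ∀ j < 16, j ≠ 0 → f j = f 1 := by
  suffices hh : ∀ n, ∀ j < 16, j ≠ 0 → getP 4 rankTab j = n → f j = f 1 from
    fun j hj h0 => hh _ j hj h0 rfl
  intro n
  induction n using Nat.strong_induction_on with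
  | _ n ih =>
    intro j hj h0 hn
    by_cases h1 : j = 1
    · rw [h1]
    have hp := (allN_iff _ _).1 par_ok j hj
    simp only [Bool.or_eq_true, Bool.and_eq_true, Nat.ble_eq, Nat.beq_eq, Nat.add_eq] at hp
    rcases hp with hp | ⟨⟨⟨hs, hp0⟩, hr⟩, e⟩
    · omega
    · rw [← e, h _ (by omega) _ (getP_lt 4 _ _)]
      exact ih _ (by omega) _ (getP_lt 4 _ _) (by omega) rfl

end Cfsg.Agent.H43.LFi
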