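import Cfsg.Agent.H43.LFi.Code

/-!
Kernel checks for the subgroup of order 128.
-/

set_option autoImplicit false
set_option Elab.async false
set_option maxRecDepth 100000
set_option maxHeartbeats 4000000

namespace Cfsg.Agent.H43.LFi

open Cfsg.Agent.Compute Cfsg.Agent.H41.SUSix Cfsg.Agent.H41.LFi

theorem gl_ok : ∀ i < 7, ∀ x ∈ gL i, x < 18 := by decide +kernel

theorem nl_ok : ∀ l < 5, ∀ x ∈ nL l, x < 18 := by decide +kernel

theorem el_ok : allN 128 (fun k =>
    allN 6 (fun b => Nat.beq (mulVecC (mC k) (bC b)) (eApC k (bC b)) &&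
      Nat.beq (getP 12 (keyC k) b) (mulVecC (mC k) (bC b)))) = true := by
  decide +kernel

theorem key_inj : allN 128 (fun k => allN 128 (fun l =>
    Nat.beq k l || !allN 6 (fun b => Nat.beq (getP 12 (keyC k) b) (getP 12 (keyC l) b)))) = true := by
  decide +kernel

theorem rm_ok : allN 128 (fun k => allN 7 (fun i => Nat.ble (rmC k i) 127 &&
    allN 6 (fun b => Nat.beq (mulVecC (mC k) (wApC (gL i) (bC b)))
      (getP 12 (keyC (rmC k i)) b)))) = true := by
  decide +kernel

theorem mask_ok : allN 128 (fun k => allN 128 (fun l =>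
    cond (Nat.beq (mulS k k) 0 && Nat.beq (mulS l l) 0 && Nat.beq (mulS k l) (mulS l k))
      (Nat.beq (getP 1 (cmC k) l) 1) true)) = true := by
  decide +kernel

theorem clique_ok : allN 128 (fun x => inA x || !Nat.beq (mulS x x) 0 ||
    allN 128 (fun y => inB y || !Nat.beq (getP 1 (cmC x) y) 1 ||
      Nat.ble (cntC (Nat.land (cmC x) (cmC y))) 15)) = true := by
  decide +kernel

theorem move_ok : allN 128 (fun k => Nat.beq k 0 || !Nat.beq (mulS k k) 0 ||
    allN 16 (fun c => allN 16 (fun d => Nat.beq c d ||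
      !Nat.beq (mvC k (combC (getP 3 (getP 6 pairTab k) 0) (getP 3 (getP 6 pairTab k) 1) 0 c))
        (mvC k (combC (getP 3 (getP 6 pairTab k) 0) (getP 3 (getP 6 pairTab k) 1) 0 d))))) = true := by
  decide +kernel

theorem pair_ok : allN 128 (fun k => Nat.ble (getP 3 (getP 6 pairTab k) 0) 5 &&
    Nat.ble (getP 3 (getP 6 pairTab k) 1) 5) = true := by
  decide +kernel

theorem moveB_ok : allN 64 (fun c => allN 64 (fun d => Nat.beq c d ||
    !Nat.beq (mvB (combC 0 1 2 c)) (mvB (combC 0 1 2 d)))) = true := by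
  decide +kernel

theorem moveA_ok : allN 256 (fun c => allN 256 (fun d => Nat.beq c d ||
    !Nat.beq (mvA (combA c)) (mvA (combA d)))) = true := by
  decide +kernel

theorem b_grp : allN 16 (fun i => allN 16 (fun j => inB (mulS (bIdx i) (bIdx j)) &&
    Nat.beq (mulS (bIdx i) (bIdx j)) (mulS (bIdx j) (bIdx i))) &&
    Nat.beq (mulS (bIdx i) (bIdx i)) 0) = true := by
  decide +kernel

theorem u_ok : allN 64 (fun i => Nat.ble (uC i) 4095 && !Nat.beq (clsC (uC i)) 1 &&
    allN 4 (fun b => Nat.beq (mvC (bIdx (Nat.pow 2 b)) (uC i)) 0) &&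
    allN 64 (fun j => Nat.beq i j || !Nat.beq (uC i) (uC j))) = true := by
  decide +kernel

theorem n_U : allN 5 (fun l => allN 64 (fun i => allN 4 (fun b =>
    Nat.beq (mvC (bIdx (Nat.pow 2 b)) (wApC (nL l) (uC i))) 0))) = true := by
  decide +kernel

theorem n_B : allN 5 (fun l => allN 16 (fun j => allN 6 (fun b =>
    Nat.beq (wApC (nL l) (mulVecC (mC (bIdx j)) (bC b)))
      (mulVecC (mC (bIdx (sigC l j))) (wApC (nL l) (bC b)))))) = true := by
  decide +kernel

theorem par_ok : allN 16 (fun j => Nat.ble j 1 ||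
    (Nat.ble (getP 3 stepTab j) 4 && Nat.ble 1 (getP 4 parTab j) &&
      Nat.ble (Nat.add (getP 4 rankTab (getP 4 parTab j)) 1) (getP 4 rankTab j) &&
      Nat.beq (sigC (getP 3 stepTab j) (getP 4 parTab j)) j)) = true := by
  decide +kernel

end Cfsg.Agent.H43.LFi
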