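import Cfsg.Agent.H41.LFi.Semi
import Cfsg.Agent.H43.LFi.Data

/-!
Coded evaluation of words in the tabulated maps and of the subgroup of order 128 they generate.
-/

set_option autoImplicit false

namespace Cfsg.Agent.H43.LFi

open Cfsg Cfsg.Agent.Compute Cfsg.Agent.H41.SUSix Cfsg.Agent.H41.LFi Matrix

/-- The code of the `i`-th of the eighteen matrices. -/
noncomputable def lMat (i : ℕ) : ℕ := cond (Nat.ble 8 i) (gC (Nat.sub i 8)) (xC i)

/-- The eighteen elements of the model. -/
noncomputable def lGen (i : ℕ) : Equiv.Perm Vec :=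
  if h : i < 8 then xP ⟨i, h⟩ else if h : i - 8 < 10 then lin (genG ⟨i - 8, h⟩) else 1

/-- Apply a word. -/
noncomputable def wApC (l : List ℕ) (v : ℕ) : ℕ :=
  List.rec v (fun i _ ih => mulVecC (lMat i) ih) l

/-- The element of a word. -/
noncomputable def wP (l : List ℕ) : Equiv.Perm Vec :=
  List.rec 1 (fun i _ ih => lGen i * ih) l

theorem semi_wP : ∀ l : List ℕ, Semi false (wP l)
  | [] => semi_id
  | i :: l => by
    have hg : Semi false (lGen i) := by
      unfold lGen
      split_ifs
      · exact semi_xP _
      · exact semi_lin _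
      · exact semi_id
    exact hg.comp (semi_wP l)

theorem wP_mem : ∀ l : List ℕ, wP l ∈ Kl
  | [] => one_mem _
  | i :: l => by
    refine mul_mem ?_ (wP_mem l)
    unfold lGen
    split_ifs
    · exact xP_mem _
    · exact Subgroup.mem_map_of_mem _ (genG_mem _)
    · exact one_mem _

theorem wP_dV : ∀ (l : List ℕ), (∀ i ∈ l, i < 18) → ∀ v, wP l (dV v) = dV (wApC l v)
  | [], _, _ => rfl
  | i :: l, h, v => by
    show lGen i (wP l (dV v)) = dV (mulVecC (lMat i) (wApC l v))
    have hi : i < 18 := h i (by simp)
    rw [wP_dV l (fun j hj => h j (by simp [hj])) v, dV_mulVecC]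
    unfold lGen lMat
    split_ifs with h1 h2
    · rw [show Nat.ble 8 i = false by rw [← Bool.not_eq_true, Nat.ble_eq]; omega]
      rfl
    · rw [show Nat.ble 8 i = true by rw [Nat.ble_eq]; omega]
      rfl
    · omega

/-- The code of the matrix of the `k`-th element. -/
noncomputable def mC (k : ℕ) : ℕ := getP 72 elTab k

/-- The images of the basis under the `k`-th element. -/
noncomputable def keyC (k : ℕ) : ℕ := getP 72 keyTab k

/-- The seven generators. -/
noncomputable def gL (i : ℕ) : List ℕ := nth [] gWord i

/-- One of the seven, or not, along a bit. -/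
noncomputable def ebitC (k i v : ℕ) : ℕ := cond (Nat.beq (getP 1 k i) 1) (wApC (gL i) v) v

/-- Coded product of the seven along the bits of `k`. -/
noncomputable def eApC (k v : ℕ) : ℕ :=
  ebitC k 0 (ebitC k 1 (ebitC k 2 (ebitC k 3 (ebitC k 4 (ebitC k 5 (ebitC k 6 v))))))

/-- One of the seven, or not, along a bit. -/
noncomputable def ebitP (k i : ℕ) : Equiv.Perm Vec :=
  cond (Nat.beq (getP 1 k i) 1) (wP (gL i)) 1

/-- The product of the seven along the bits of `k`. -/
noncomputable def eP (k : ℕ) : Equiv.Perm Vec :=
  ebitP k 0 * ebitP k 1 * ebitP k 2 * ebitP k 3 * ebitP k 4 * ebitP k 5 * ebitP k 6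

/-- Right multiplication by a generator, on indices. -/
noncomputable def rmC (k i : ℕ) : ℕ := getP 7 rmTab (Nat.add (Nat.mul 7 k) i)

/-- Right multiplication by a generator or not, along a bit. -/
noncomputable def rbC (l k i : ℕ) : ℕ := cond (Nat.beq (getP 1 l i) 1) (rmC k i) k

/-- The product on indices. -/
noncomputable def mulS (k l : ℕ) : ℕ :=
  rbC l (rbC l (rbC l (rbC l (rbC l (rbC l (rbC l k 0) 1) 2) 3) 4) 5) 6

/-- The involutions commuting with the `k`-th element, as a bit mask. -/
noncomputable def cmC (k : ℕ) : ℕ := getP 128 cmTab k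

/-- The number of ones among the lowest 128 bits. -/
noncomputable def cntC (m : ℕ) : ℕ :=
  Nat.rec 0 (fun i acc => Nat.add acc (getP 1 m i)) 128

/-- Membership in the first group of order sixteen. -/
noncomputable def inA (k : ℕ) : Bool := Nat.ble k 15

/-- Membership in the second group of order sixteen. -/
noncomputable def inB (k : ℕ) : Bool := Nat.beq (Nat.land k 0x4c) 0

/-- The `j`-th element of the second group of order sixteen. -/
noncomputable def bIdx (j : ℕ) : ℕ :=
  Nat.add (Nat.mod j 4) (Nat.mul 16 (Nat.div j 4))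

/-- The difference of the image and the vector. -/
noncomputable def mvC (k v : ℕ) : ℕ := Nat.xor (mulVecC (mC k) v) v

/-- The combination of three basis vectors along the digits of `c`. -/
noncomputable def combC (a b d c : ℕ) : ℕ :=
  Nat.xor (scalC (getP 2 c 0) (bC a)) (Nat.xor (scalC (getP 2 c 1) (bC b)) (scalC (getP 2 c 2) (bC d)))

/-- The four differences for a basis of the second group. -/
noncomputable def mvB (v : ℕ) : ℕ :=
  packP 12 (fun i => mvC (bIdx (Nat.pow 2 i)) v) 4

/-- The four differences for a basis of the first group. -/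
noncomputable def mvA (v : ℕ) : ℕ := packP 12 (fun i => mvC (Nat.pow 2 i) v) 4

/-- The combination of four basis vectors along the digits of `c`. -/
noncomputable def combA (c : ℕ) : ℕ :=
  Nat.xor (combC 0 1 2 c) (scalC (getP 2 c 3) (bC 4))

/-- The words normalising the second group. -/
noncomputable def nL (l : ℕ) : List ℕ := nth [] nWord l

/-- The action of a word on the second group. -/
noncomputable def sigC (l j : ℕ) : ℕ := getP 4 (getP 64 sigTab l) j

/-- The `i`-th vector fixed by the second group. -/
noncomputable def uC (i : ℕ) : ℕ := getP 12 uTab i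

end Cfsg.Agent.H43.LFi
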