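import Cfsg.Agent.H43.LFi.Sylow
import Cfsg.Agent.H41.LFi.Core

/-!
Groups of large Fischer type: the elementary abelian subgroup of order `2 ^ 11` of the centraliser
of the central involution over the second group of order sixteen of the model.
-/

set_option autoImplicit false
set_option maxRecDepth 20000

namespace Cfsg.Agent.H43.LFi

open Cfsg Cfsg.Agent.Compute Cfsg.Agent.Unitary Cfsg.Agent.H41.SUSix Cfsg.Agent.H41.LFi Matrix

open Cfsg.Agent.H92.ExtraForm (zp)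

attribute [local irreducible] mC sigC bIdx wApC mulVecC wP eP uC

theorem u_step : allN 64 (fun i => Nat.beq i 0 || anyN 6 (fun k => Nat.ble (Nat.pow 2 k) i &&
    Nat.beq (uC i) (Nat.xor (uC (Nat.pow 2 k)) (uC (Nat.sub i (Nat.pow 2 k)))))) = true := by
  decide +kernel

/-- An additive subgroup containing the six generators contains all fixed vectors. -/
theorem U_span {W : AddSubgroup Vec} (h : ∀ k < 6, dV (uC (2 ^ k)) ∈ W) : Uset ≤ W := by
  intro u hu
  obtain ⟨i, hi, rfl⟩ := U_list hu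
  clear hu
  induction i using Nat.strong_induction_on with
  | _ i ih =>
    have hs := (allN_iff _ _).1 u_step i hi
    rw [Bool.or_eq_true, Nat.beq_eq, anyN_iff] at hs
    rcases hs with rfl | ⟨k, hk, e⟩
    · have : uC 0 = 0 := by decide +kernel
      rw [this, dV_zero]
      exact W.zero_mem
    · rw [Bool.and_eq_true, Nat.ble_eq, Nat.beq_eq] at e
      obtain ⟨e1, e2⟩ := e
      have e1' : 2 ^ k ≤ i := e1
      have : 0 < 2 ^ k := Nat.two_pow_pos k
      rw [e2, dV_xor]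
      exact W.add_mem (h k hk) (ih _ (show i - 2 ^ k < i by omega) (show i - 2 ^ k < 64 by omega))

/-- The scalar as a permutation. -/
theorem exists_omega : ∃ k ∈ Kl, ∀ u : Vec, k u = ω₄ • u := by
  obtain ⟨g, hg⟩ := exists_scalar ω₄ (by decide +kernel)
  refine ⟨lin g, Subgroup.mem_map_of_mem _ g.2, fun u => funext fun c => ?_⟩
  rw [lin_apply, ap_def, hg]
  exact mono_mulVec (fun _ => ω₄) 1 u c

theorem U_wt {u : Vec} (hu : u ∈ Uset) : wt u = 0 := by
  have h := U_herm hu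
  rw [Ne, cls_one_iff] at h
  generalize wt u = a at h
  revert h
  revert a
  decide

theorem U_smul {u : Vec} (hu : u ∈ Uset) : ω₄ • u ∈ Uset := by
  refine mem_U.2 fun i => ?_
  rw [(semi_eP _).smul, (mem_U.1 hu) i]
  rfl

theorem card_vec' : Nat.card Vec = 4096 := by
  rw [H41.LFi.card_vec]
  norm_num

/-- The fixed vectors are their own orthogonal. -/
theorem U_perp {v : Vec} (h : ∀ u ∈ Uset, pol v u = 0) : v ∈ Uset := by
  classical
  haveI : Fintype Vec := Fintype.ofFinite Vec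
  have hle := isQuad.le_perp (W := Uset) (fun u hu => U_wt hu)
  have hc := H92.F2Forms.card_perp polHom isQuad.nondeg Uset
  rw [card_U, card_vec'] at hc
  have e := AddSubgroup.eq_of_le_of_card_ge hle (by rw [card_U]; omega)
  rw [e]
  exact fun u hu => h u hu

variable {G : Type*} [Group G] {z : G} {Q : Subgroup G} (S : LSetup z Q)

/-- The elements of the core over the fixed vectors. -/
noncomputable def piU [Finite G] : Subgroup G where
  carrier := {q | q ∈ Q ∧ S.π q ∈ Uset}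
  one_mem' := ⟨Q.one_mem, by rw [S.π_one]; exact Uset.zero_mem⟩
  mul_mem' := by
    rintro a b ⟨ha, ha'⟩ ⟨hb, hb'⟩
    exact ⟨Q.mul_mem ha hb, by rw [S.π_mul a ha b hb]; exact Uset.add_mem ha' hb'⟩
  inv_mem' := by
    rintro a ⟨ha, ha'⟩
    exact ⟨Q.inv_mem ha, by rw [S.π_inv ha]; exact ha'⟩

/-- The preimage of the second group of order sixteen in the centraliser. -/
noncomputable def preB [Finite G] : Subgroup G :=
  (Bgrp.comap S.rhoHom).map (Subgroup.centralizer ({z} : Set G)).subtype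

/-- The elementary abelian subgroup. -/
noncomputable def Aelem [Finite G] : Subgroup G :=
  preB S ⊓ Subgroup.centralizer (piU S : Set G)

variable [Finite G]

theorem piU_le : piU S ≤ Q := fun _ h => h.1

theorem z_mem_piU : z ∈ piU S := ⟨S.hzQ, by rw [S.π_z]; exact Uset.zero_mem⟩

theorem card_piU : Nat.card (piU S) = 2 ^ 7 := by
  have e : S.piImage (piU S) (piU_le S) = Uset := by
    ext v
    constructor
    · rintro ⟨a, ha, rfl⟩
      exact ha.2
    · intro hv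
      obtain ⟨q, hq, rfl⟩ := S.π_surj v
      exact ⟨q, ⟨hq, hv⟩, rfl⟩
  rw [S.card_piImage (piU S) (piU_le S) (z_mem_piU S), e, card_U]
  norm_num

theorem piU_sq {q : G} (h : q ∈ piU S) : q * q = 1 := by
  rw [S.sq q h.1, U_wt h.2]
  simp [zp]

theorem piU_comm {a b : G} (ha : a ∈ piU S) (hb : b ∈ piU S) : a * b = b * a := by
  have e := piU_sq S (mul_mem ha hb)
  have ea := inv_eq_of_mul_eq_one_right (piU_sq S ha)
  have eb := inv_eq_of_mul_eq_one_right (piU_sq S hb)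
  calc a * b = (a * b)⁻¹ := (inv_eq_of_mul_eq_one_right e).symm
    _ = b * a := by rw [_root_.mul_inv_rev, ea, eb]

theorem mem_preB {h : G} : h ∈ preB S ↔ h * z = z * h ∧ S.ρ h ∈ Bgrp := by
  constructor
  · rintro ⟨c, hc, rfl⟩
    exact ⟨Subgroup.mem_centralizer_singleton_iff.1 c.2, hc⟩
  · rintro ⟨h1, h2⟩
    exact ⟨⟨h, Subgroup.mem_centralizer_singleton_iff.2 h1⟩, h2, rfl⟩

theorem mem_Aelem {h : G} :
    h ∈ Aelem S ↔ (h * z = z * h ∧ S.ρ h ∈ Bgrp) ∧ ∀ q ∈ piU S, q * h = h * q := by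
  rw [Aelem, Subgroup.mem_inf, mem_preB, Subgroup.mem_centralizer_iff]
  rfl

theorem piU_le_A : piU S ≤ Aelem S := fun a ha => (mem_Aelem S).2
  ⟨⟨S.le a ha.1, by rw [(S.ρ_ker a (S.le a ha.1)).2 ha.1]; exact one_mem _⟩,
    fun _ hq => piU_comm S hq ha⟩

theorem A_inf_Q : Aelem S ⊓ Q = piU S := by
  refine le_antisymm ?_ (le_inf (piU_le_A S) (piU_le S))
  rintro q ⟨hA, hq⟩
  refine ⟨hq, U_perp fun u hu => ?_⟩
  obtain ⟨r, hr, rfl⟩ := S.π_surj u
  exact (S.comm_iff hq hr).1 (((mem_Aelem S).1 hA).2 r ⟨hr, hu⟩).symm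

theorem card_preB : Nat.card (preB S) = 2 ^ 17 := by
  set φ := S.rhoHom.comp (Bgrp.comap S.rhoHom).subtype with hφ
  have hr : φ.range = Bgrp := by
    rw [hφ, MonoidHom.range_comp, Subgroup.range_subtype, Subgroup.map_comap_eq_self]
    intro b hb
    obtain ⟨c, hc, e⟩ := S.ρ_surj b (S_le (B_le_S hb))
    exact ⟨⟨c, Subgroup.mem_centralizer_singleton_iff.2 hc⟩, e⟩
  have hk : Nat.card φ.ker = 2 ^ 13 := by
    rw [← S.card_Q]
    refine Nat.card_congr (Equiv.ofBijective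
      (fun x => (⟨((x : ↥(Bgrp.comap S.rhoHom)) : ↥(Subgroup.centralizer ({z} : Set G))).1,
        (S.ρ_ker _ (Subgroup.mem_centralizer_singleton_iff.1 x.1.1.2)).1 x.2⟩ : ↥Q)) ⟨?_, ?_⟩)
    · intro x y e
      exact Subtype.ext (Subtype.ext (Subtype.ext (congrArg Subtype.val e :)))
    · rintro ⟨q, hq⟩
      have h1 := (S.ρ_ker q (S.le q hq)).2 hq
      exact ⟨⟨⟨⟨q, Subgroup.mem_centralizer_singleton_iff.2 (S.le q hq)⟩,
        show S.ρ q ∈ Bgrp by rw [h1]; exact one_mem _⟩, h1⟩, rfl⟩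
  have h := Subgroup.card_mul_index φ.ker
  rw [Subgroup.index_ker, hr, card_B, hk] at h
  rw [preB, ← Nat.card_congr (Subgroup.equivMapOfInjective _ _
    (Subgroup.subtype_injective _)).toEquiv, ← h]
  norm_num

/-- An element of the centraliser fixing the image of an element of the core centralises it or
multiplies it by the central involution. -/
theorem conj_cases {n q : G} (hn : n * z = z * n) (hq : q ∈ Q) (h : S.ρ n (S.π q) = S.π q) :
    n * q * n⁻¹ = q ∨ n * q * n⁻¹ = z * q :=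
  S.π_eq hq (S.norm n hn q hq) (by rw [S.ρ_π n hn q hq, h])

theorem card_A_ge : 2 ^ 11 ≤ Nat.card (Aelem S) := by
  classical
  have hl : ∀ k : Fin 6, ∃ q, q ∈ piU S ∧ S.π q = dV (uC (2 ^ k.1)) := fun k => by
    obtain ⟨q, hq, e⟩ := S.π_surj (dV (uC (2 ^ k.1)))
    refine ⟨q, ⟨hq, ?_⟩, e⟩
    rw [e]
    exact (u_facts (show 2 ^ k.1 < 64 from
      Nat.pow_lt_pow_right (show 1 < 2 by norm_num) k.2)).2.2.1
  choose qk hqk hπk using hl
  let Φ : ↥(preB S) → Fin 6 → Bool := fun n k => decide ((n : G) * qk k * (n : G)⁻¹ = qk k)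
  have hin : ∀ n m : ↥(preB S), Φ n = Φ m → (m : G)⁻¹ * n ∈ Aelem S := by
    intro n m e
    obtain ⟨nz, nB⟩ := (mem_preB S).1 n.2
    obtain ⟨mz, mB⟩ := (mem_preB S).1 m.2
    set a := (m : G)⁻¹ * n with ha
    have haz : a * z = z * a := S.z_comm_mul (S.z_comm_inv mz) nz
    have hk : ∀ k, a * qk k = qk k * a := by
      intro k
      have hn := conj_cases S nz (hqk k).1 (B_fixes_U nB (hqk k).2)
      have hm := conj_cases S mz (hqk k).1 (B_fixes_U mB (hqk k).2)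
      have ek : ((n : G) * qk k * (n : G)⁻¹ = qk k ↔ (m : G) * qk k * (m : G)⁻¹ = qk k) :=
        decide_eq_decide.1 (congrFun e k)
      have enm : (n : G) * qk k * (n : G)⁻¹ = (m : G) * qk k * (m : G)⁻¹ := by
        by_cases hc : (n : G) * qk k * (n : G)⁻¹ = qk k
        · rw [hc, ek.1 hc]
        · rw [hn.resolve_left hc, hm.resolve_left (fun h => hc (ek.2 h))]
      calc a * qk k = (m : G)⁻¹ * ((n : G) * qk k * (n : G)⁻¹) * n := by rw [ha]; group
        _ = (m : G)⁻¹ * ((m : G) * qk k * (m : G)⁻¹) * n := by rw [enm]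
        _ = qk k * a := by rw [ha]; group
    let X : Subgroup G := Q ⊓ Subgroup.centralizer ({a} : Set G)
    have hU : Uset ≤ S.piImage X inf_le_left := U_span fun k hk' =>
      ⟨qk ⟨k, hk'⟩, ⟨(hqk ⟨k, hk'⟩).1,
        Subgroup.mem_centralizer_singleton_iff.2 (hk ⟨k, hk'⟩).symm⟩, hπk ⟨k, hk'⟩⟩
    refine (mem_Aelem S).2 ⟨⟨haz, ?_⟩, fun q hq => ?_⟩
    · rw [ha, S.ρ_mul _ _ (S.z_comm_inv mz) nz, S.ρ_inv mz]
      exact mul_mem (inv_mem mB) nB
    · obtain ⟨r, ⟨hrQ, hra⟩, er⟩ := hU hq.2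
      replace hra := Subgroup.mem_centralizer_singleton_iff.1 hra
      rcases S.π_eq hrQ hq.1 er with e' | e'
      · rw [e']; exact hra
      · rw [e', mul_assoc, hra, ← mul_assoc, ← haz, mul_assoc]
  let rep : (Fin 6 → Bool) → ↥(preB S) := Function.invFun Φ
  have hrep : ∀ n, Φ (rep (Φ n)) = Φ n := fun n => Function.invFun_eq ⟨n, rfl⟩
  have hle := Nat.card_le_card_of_injective
    (fun n => ((⟨_, hin n (rep (Φ n)) (hrep n).symm⟩ : ↥(Aelem S)), Φ n))
    (fun n m e => by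
      have e1 : ((rep (Φ n) : ↥(preB S)) : G)⁻¹ * n = ((rep (Φ m) : ↥(preB S)) : G)⁻¹ * m :=
        congrArg (fun p : ↥(Aelem S) × (Fin 6 → Bool) => (p.1 : G)) e
      have e2 : Φ n = Φ m := congrArg Prod.snd e
      rw [e2] at e1
      exact Subtype.ext (mul_left_cancel e1))
  rw [card_preB, Nat.card_prod, Nat.card_fun, Nat.card_fin, Nat.card_eq_fintype_card (α := Bool),
    Fintype.card_bool] at hle
  omega

/-- The image of the subgroup is the second group of order sixteen. -/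
theorem A_card_image : Nat.card (Aelem S) = 2 ^ 11 ∧
    ∀ b ∈ Bgrp, ∃ a ∈ Aelem S, S.ρ a = b := by
  let φ : ↥(Aelem S) →* Equiv.Perm Vec := MonoidHom.mk' (fun a => S.ρ a) fun a b =>
    S.ρ_mul a b ((mem_Aelem S).1 a.2).1.1 ((mem_Aelem S).1 b.2).1.1
  have hr : φ.range ≤ Bgrp := by
    rintro _ ⟨a, rfl⟩
    exact ((mem_Aelem S).1 a.2).1.2
  have hk : φ.ker = (piU S).subgroupOf (Aelem S) := by
    ext a
    rw [MonoidHom.mem_ker, Subgroup.mem_subgroupOf, ← A_inf_Q S, Subgroup.mem_inf,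
      and_iff_right a.2]
    exact S.ρ_ker a ((mem_Aelem S).1 a.2).1.1
  have h := Subgroup.card_mul_index φ.ker
  rw [Subgroup.index_ker, hk, Nat.card_congr (Subgroup.subgroupOfEquivOfLe (piU_le_A S)).toEquiv,
    card_piU] at h
  have h16 : Nat.card φ.range ≤ 16 :=
    card_B ▸ Nat.card_le_card_of_injective _ (Subgroup.inclusion_injective hr)
  have h11 := card_A_ge S
  have e16 : Nat.card φ.range = 16 := by omega
  refine ⟨by omega, fun b hb => ?_⟩
  rw [← Subgroup.eq_of_le_of_card_ge hr (by rw [card_B, e16])] at hb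
  obtain ⟨a, rfl⟩ := hb
  exact ⟨a, a.2, rfl⟩

theorem card_A : Nat.card (Aelem S) = 2 ^ 11 := (A_card_image S).1

theorem A_lift {b : Equiv.Perm Vec} (hb : b ∈ Bgrp) : ∃ a ∈ Aelem S, S.ρ a = b :=
  (A_card_image S).2 b hb

/-- An element whose image normalises the fixed vectors and the second group normalises the
subgroup. -/
theorem A_conj {c : G} (hc : c * z = z * c) (hU : ∀ u ∈ Uset, S.ρ c u ∈ Uset)
    (hB : ∀ b ∈ Bgrp, S.ρ c * b * (S.ρ c)⁻¹ ∈ Bgrp) {a : G} (ha : a ∈ Aelem S) :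
    c * a * c⁻¹ ∈ Aelem S := by
  classical
  obtain ⟨⟨haz, haB⟩, hac⟩ := (mem_Aelem S).1 ha
  have hmem : ∀ q ∈ piU S, c * q * c⁻¹ ∈ piU S := fun q hq =>
    ⟨S.norm c hc q hq.1, by rw [S.ρ_π c hc q hq.1]; exact hU _ hq.2⟩
  refine (mem_Aelem S).2 ⟨⟨S.z_comm_mul (S.z_comm_mul hc haz) (S.z_comm_inv hc), ?_⟩, fun q hq => ?_⟩
  · rw [S.ρ_mul _ _ (S.z_comm_mul hc haz) (S.z_comm_inv hc), S.ρ_mul _ _ hc haz, S.ρ_inv hc]
    exact hB _ haB
  · obtain ⟨⟨r, hr⟩, e⟩ := (Finite.injective_iff_surjective.1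
      (show Function.Injective (fun r : ↥(piU S) => (⟨_, hmem r r.2⟩ : ↥(piU S))) from
        fun x y e => Subtype.ext (mul_left_cancel (mul_right_cancel (congrArg Subtype.val e)))))
      ⟨q, hq⟩
    rw [← show c * r * c⁻¹ = q from congrArg Subtype.val e]
    calc c * r * c⁻¹ * (c * a * c⁻¹) = c * (r * a) * c⁻¹ := by group
      _ = c * (a * r) * c⁻¹ := by rw [hac r hr]
      _ = c * a * c⁻¹ * (c * r * c⁻¹) := by group

/-- The squares lie in the centre. -/
theorem A_sq_cases {a : G} (ha : a ∈ Aelem S) : a * a = 1 ∨ a * a = z := by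
  obtain ⟨k, hk, hkω⟩ := exists_omega
  obtain ⟨c, hc, ec⟩ := S.ρ_surj k hk
  have hcomm : ∀ b ∈ Bgrp, k * b = b * k := by
    rintro _ ⟨j, -, rfl⟩
    exact Equiv.ext fun u => by
      rw [Equiv.Perm.mul_apply, Equiv.Perm.mul_apply, hkω, hkω, (semi_eP _).smul]
      rfl
  have hca : c * a * c⁻¹ ∈ Aelem S := by
    refine A_conj S hc (fun u hu => ?_) (fun b hb => ?_) ha
    · rw [ec, hkω]
      exact U_smul hu
    · rw [ec, hcomm b hb, mul_inv_cancel_right]
      exact hb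
  obtain ⟨⟨haz, haB⟩, hac⟩ := (mem_Aelem S).1 ha
  have hd : a⁻¹ * (c * a * c⁻¹) ∈ piU S := by
    rw [← A_inf_Q S]
    have hmem := mul_mem (inv_mem ha) hca
    refine Subgroup.mem_inf.2 ⟨hmem, (S.ρ_ker _ ((mem_Aelem S).1 hmem).1.1).1 ?_⟩
    rw [S.ρ_mul _ _ (S.z_comm_inv haz) ((mem_Aelem S).1 hca).1.1, S.ρ_inv haz,
      S.ρ_mul _ _ (S.z_comm_mul hc haz) (S.z_comm_inv hc), S.ρ_mul _ _ hc haz, S.ρ_inv hc, ec,
      hcomm _ haB, mul_inv_cancel_right, inv_mul_cancel]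
  have hsq : a * a ∈ piU S := by
    rw [← A_inf_Q S]
    refine Subgroup.mem_inf.2 ⟨mul_mem ha ha, (S.ρ_ker _ (S.z_comm_mul haz haz)).1 ?_⟩
    rw [S.ρ_mul a a haz haz]
    obtain ⟨j, hj, e⟩ := haB
    rw [e]
    exact (b_facts hj hj).2.2
  set d := a⁻¹ * (c * a * c⁻¹) with hd'
  have e1 : c * (a * a) * c⁻¹ = a * a := by
    calc c * (a * a) * c⁻¹ = (a * d) * (a * d) := by rw [hd']; group
      _ = a * (d * a) * d := by group
      _ = a * (a * d) * d := by rw [hac d hd]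
      _ = a * a * (d * d) := by group
      _ = a * a := by rw [piU_sq S hd, mul_one]
  have e2 := S.ρ_π c hc (a * a) hsq.1
  rw [e1, ec, hkω] at e2
  refine (S.π_zero _ hsq.1).1 ?_
  generalize S.π (a * a) = v at e2
  funext i
  have key : ∀ x : K4, x = ω₄ * x → x = 0 := by decide +kernel
  exact key _ (congrFun e2 i)

theorem b_mul_ne : ∀ i < 16, ∀ j < 16, bIdx i ≠ bIdx j → mulS (bIdx i) (bIdx j) ≠ 0 := by
  decide +kernel

theorem b_two_four : mulS (bIdx 2) (bIdx 4) = bIdx 6 := by decide +kernel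

/-- The subgroup is elementary abelian. -/
theorem A_sq {a : G} (ha : a ∈ Aelem S) : a * a = 1 := by
  classical
  have hl : ∀ j : Fin 16, ∃ x ∈ Aelem S, S.ρ x = eP (bIdx j) := fun j =>
    A_lift S ⟨j, j.2, rfl⟩
  choose x hx hρx using hl
  -- the square depends only on the image
  have hwell : ∀ a ∈ Aelem S, ∀ j : Fin 16, S.ρ a = eP (bIdx j) → a * a = x j * x j := by
    intro a ha j e
    obtain ⟨⟨haz, -⟩, hac⟩ := (mem_Aelem S).1 ha
    obtain ⟨⟨hxz, -⟩, hxc⟩ := (mem_Aelem S).1 (hx j)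
    have hd : (x j)⁻¹ * a ∈ piU S := by
      rw [← A_inf_Q S]
      refine Subgroup.mem_inf.2 ⟨mul_mem (inv_mem (hx j)) ha, (S.ρ_ker _ (S.z_comm_mul (S.z_comm_inv hxz) haz)).1 ?_⟩
      rw [S.ρ_mul _ _ (S.z_comm_inv hxz) haz, S.ρ_inv hxz, hρx, e, inv_mul_cancel]
    set d := (x j)⁻¹ * a with hd'
    calc a * a = x j * d * (x j * d) := by rw [hd']; group
      _ = x j * (d * x j) * d := by group
      _ = x j * (x j * d) * d := by rw [hxc d hd]
      _ = x j * x j * (d * d) := by group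
      _ = _ := by rw [piU_sq S hd, mul_one]
  let f : ℕ → G := fun j => if h : j < 16 then x ⟨j, h⟩ * x ⟨j, h⟩ else 1
  have hinv : ∀ l < 5, ∀ j < 16, f (sigC l j) = f j := by
    intro l hl j hj
    obtain ⟨c, hc, ec⟩ := S.ρ_surj _ (nP_mem l)
    have hB : ∀ b ∈ Bgrp, S.ρ c * b * (S.ρ c)⁻¹ ∈ Bgrp := by
      rintro _ ⟨i, hi, rfl⟩
      rw [ec, nP_B hl hi, mul_inv_cancel_right]
      exact ⟨_, sig_lt l i, rfl⟩
    have hm := A_conj S hc (fun u hu => ec ▸ nP_U hl hu) hB (hx ⟨j, hj⟩)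
    obtain ⟨⟨hxz, -⟩, -⟩ := (mem_Aelem S).1 (hx ⟨j, hj⟩)
    have e : S.ρ (c * x ⟨j, hj⟩ * c⁻¹) = eP (bIdx (sigC l j)) := by
      rw [S.ρ_mul _ _ (S.z_comm_mul hc hxz) (S.z_comm_inv hc), S.ρ_mul _ _ hc hxz, S.ρ_inv hc,
        hρx, ec, nP_B hl hj, mul_inv_cancel_right]
    have e' := hwell _ hm ⟨sigC l j, sig_lt l j⟩ e
    simp only [f, dif_pos (sig_lt l j), dif_pos hj]
    rw [← e', show c * x ⟨j, hj⟩ * c⁻¹ * (c * x ⟨j, hj⟩ * c⁻¹) =
      c * (x ⟨j, hj⟩ * x ⟨j, hj⟩) * c⁻¹ by group]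
    rcases A_sq_cases S (hx ⟨j, hj⟩) with h | h <;> rw [h]
    · group
    · rw [hc, mul_inv_cancel_right]
  have hconst := sig_const f hinv
  -- the common value is trivial
  have hone : f 1 = 1 := by
    rcases A_sq_cases S (hx 1) with h | h
    · simpa [f] using h
    exfalso
    have hval : ∀ j : Fin 16, j ≠ 0 → x j * x j = z := by
      intro j hj
      have := hconst j j.2 (fun e => hj (Fin.ext e))
      simp only [f, dif_pos j.2, dif_pos (show 1 < 16 by norm_num)] at this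
      exact this.trans h
    have hanti : ∀ i j : Fin 16, i ≠ 0 → j ≠ 0 → ∀ y ∈ Aelem S, ∀ w ∈ Aelem S,
        S.ρ y = eP (bIdx i) → S.ρ w = eP (bIdx j) → y * w * (y * w) = z →
        w * y = z * (y * w) := by
      intro i j hi hj y hy w hw ey ew e
      obtain ⟨⟨hyz, -⟩, -⟩ := (mem_Aelem S).1 hy
      obtain ⟨⟨hwz, -⟩, -⟩ := (mem_Aelem S).1 hw
      have e1 := (hwell y hy i ey).trans (hval i hi)
      have e2 := (hwell w hw j ew).trans (hval j hj)
      have ey' : y⁻¹ = y * z := inv_eq_of_mul_eq_one_right (by rw [← mul_assoc, e1, S.z_sq])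
      have ew' : w⁻¹ = w * z := inv_eq_of_mul_eq_one_right (by rw [← mul_assoc, e2, S.z_sq])
      calc w * y = y⁻¹ * (y * w * (y * w)) * w⁻¹ := by group
        _ = y * z * z * (w * z) := by rw [e, ey', ew']
        _ = y * w * z := by rw [mul_assoc y z z, S.z_sq, mul_one, mul_assoc y w z]
        _ = z * (y * w) := S.z_comm_mul hyz hwz
    have h6 : S.ρ (x 2 * x 4) = eP (bIdx (6 : Fin 16)) := by
      rw [S.ρ_mul _ _ ((mem_Aelem S).1 (hx 2)).1.1 ((mem_Aelem S).1 (hx 4)).1.1, hρx, hρx,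
        eP_mul (bIdx_lt _ (by decide))]
      exact congrArg eP b_two_four
    have hsq : ∀ y ∈ Aelem S, ∀ j : Fin 16, S.ρ y = eP (bIdx j) → j ≠ 0 → y * y = z :=
      fun y hy j e hj => (hwell y hy j e).trans (hval j hj)
    have hprod : ∀ y ∈ Aelem S, ∀ w ∈ Aelem S, ∀ i j : Fin 16, S.ρ y = eP (bIdx i) →
        S.ρ w = eP (bIdx j) → i ≠ j → y * w * (y * w) = z := by
      intro y hy w hw i j ey ew hne
      obtain ⟨l, hl, el⟩ := (b_facts i.2 j.2).1
      have e : S.ρ (y * w) = eP (bIdx l) := by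
        rw [S.ρ_mul _ _ ((mem_Aelem S).1 hy).1.1 ((mem_Aelem S).1 hw).1.1, ey, ew, el]
      refine hsq _ (mul_mem hy hw) ⟨l, hl⟩ e fun h0 => ?_
      have hl0 : l = 0 := congrArg Fin.val h0
      rw [hl0, bIdx_zero, eP_mul (bIdx_lt _ i.2)] at el
      exact b_mul_ne _ i.2 _ j.2 (fun e' => hne (Fin.ext (bIdx_inj _ i.2 _ j.2 e')))
        (eP_inj (mulS_lt (bIdx_lt _ i.2)) (by norm_num) el)
    have a12 := hanti 1 2 (by decide) (by decide) _ (hx 1) _ (hx 2) (hρx 1) (hρx 2)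
      (hprod _ (hx 1) _ (hx 2) 1 2 (hρx 1) (hρx 2) (by decide))
    have a14 := hanti 1 4 (by decide) (by decide) _ (hx 1) _ (hx 4) (hρx 1) (hρx 4)
      (hprod _ (hx 1) _ (hx 4) 1 4 (hρx 1) (hρx 4) (by decide))
    have a16 := hanti 1 6 (by decide) (by decide) _ (hx 1) _ (mul_mem (hx 2) (hx 4)) (hρx 1) h6
      (hprod _ (hx 1) _ (mul_mem (hx 2) (hx 4)) 1 6 (hρx 1) h6 (by decide))
    obtain ⟨⟨h2z, -⟩, -⟩ := (mem_Aelem S).1 (hx 2)
    have : x 2 * x 4 * x 1 = x 1 * (x 2 * x 4) := by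
      calc x 2 * x 4 * x 1 = x 2 * (x 4 * x 1) := mul_assoc _ _ _
        _ = (x 2 * z) * (x 1 * x 4) := by rw [a14]; group
        _ = z * (x 2 * x 1) * x 4 := by rw [h2z]; group
        _ = z * z * (x 1 * (x 2 * x 4)) := by rw [a12]; group
        _ = _ := by rw [S.z_sq, one_mul]
    rw [this] at a16
    exact S.z_ne (mul_eq_right.1 a16.symm)
  obtain ⟨⟨haz, j, hj, e⟩, -⟩ := (mem_Aelem S).1 ha
  rw [hwell a ha ⟨j, hj⟩ e]
  by_cases h0 : j = 0
  · subst h0
    have hq : x ⟨0, hj⟩ ∈ piU S := by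
      rw [← A_inf_Q S]
      refine Subgroup.mem_inf.2 ⟨hx _, (S.ρ_ker _ ((mem_Aelem S).1 (hx _)).1.1).1 ?_⟩
      rw [hρx]
      show eP (bIdx 0) = 1
      rw [bIdx_zero, eP_zero]
    exact piU_sq S hq
  · have := hconst j hj h0
    rw [hone] at this
    simpa [f, dif_pos hj] using this

theorem A_elementary : IsElementaryAbelian 2 (Aelem S) := by
  refine ⟨⟨⟨fun a b => Subtype.ext ?_⟩⟩, fun a ha => by rw [pow_two]; exact A_sq S ha⟩
  have e := A_sq S (mul_mem a.2 b.2)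
  have ea := inv_eq_of_mul_eq_one_right (A_sq S a.2)
  have eb := inv_eq_of_mul_eq_one_right (A_sq S b.2)
  show (a : G) * b = b * a
  calc (a : G) * b = ((a : G) * b)⁻¹ := (inv_eq_of_mul_eq_one_right e).symm
    _ = b * a := by rw [_root_.mul_inv_rev, ea, eb]

theorem z_mem_A : z ∈ Aelem S := piU_le_A S (z_mem_piU S)

end Cfsg.Agent.H43.LFi
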