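import Cfsg.Agent.H43.LFi.Uniq

/-!
Groups of large Fischer type: every Sylow 2-subgroup of the centraliser of the central involution
has a single elementary abelian subgroup of largest order.
-/

set_option autoImplicit false
set_option maxRecDepth 20000

namespace Cfsg.Agent.H43.LFi

open Cfsg Cfsg.Agent.Compute Cfsg.Agent.Unitary Cfsg.Agent.H41.SUSix Cfsg.Agent.H41.LFi Matrix

attribute [local irreducible] mC sigC bIdx wApC mulVecC wP eP uC

theorem isElementaryAbelian_map {A B : Type*} [Group A] [Group B] (f : A →* B)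
    (hf : Function.Injective f) {P : Subgroup A} :
    IsElementaryAbelian 2 (P.map f) ↔ IsElementaryAbelian 2 P := by
  constructor
  · rintro ⟨hc, hs⟩
    refine ⟨⟨⟨fun a b => Subtype.ext (hf ?_)⟩⟩, fun a ha => hf ?_⟩
    · show f ((a : A) * b) = f ((b : A) * a)
      rw [map_mul, map_mul]
      exact congrArg Subtype.val (hc.is_comm.comm ⟨f a, Subgroup.mem_map_of_mem f a.2⟩
        ⟨f b, Subgroup.mem_map_of_mem f b.2⟩)
    · rw [map_pow, map_one]
      exact hs _ (Subgroup.mem_map_of_mem f ha)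
  · rintro ⟨hc, hs⟩
    refine ⟨⟨⟨?_⟩⟩, ?_⟩
    · rintro ⟨_, a, ha, rfl⟩ ⟨_, b, hb, rfl⟩
      refine Subtype.ext ?_
      show f a * f b = f b * f a
      rw [← map_mul, ← map_mul]
      exact congrArg f (congrArg Subtype.val (hc.is_comm.comm ⟨a, ha⟩ ⟨b, hb⟩))
    · rintro _ ⟨a, ha, rfl⟩
      rw [← map_pow, hs a ha, map_one]

theorem card_map_inj {A B : Type*} [Group A] [Group B] (f : A →* B) (hf : Function.Injective f)
    (P : Subgroup A) : Nat.card (P.map f) = Nat.card P :=
  (Nat.card_congr (P.equivMapOfInjective f hf).toEquiv).symm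

variable {G : Type*} [Group G] [Finite G] {z : G} {Q : Subgroup G} (S : LSetup z Q)

/-- The preimage of the subgroup of order 128. -/
noncomputable def preS : Subgroup ↥(Subgroup.centralizer ({z} : Set G)) := Sgrp.comap S.rhoHom

theorem mem_preS {c : ↥(Subgroup.centralizer ({z} : Set G))} :
    c ∈ preS S ↔ S.ρ (c : G) ∈ Sgrp := Iff.rfl

theorem preS_isPGroup : IsPGroup 2 (preS S) := by
  intro c
  haveI : Fact (Nat.Prime 2) := ⟨Nat.prime_two⟩
  have hSp : IsPGroup 2 Sgrp := IsPGroup.of_card (n := 7) (by rw [card_S]; norm_num)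
  obtain ⟨m, hm⟩ := hSp ⟨S.ρ ((c : ↥(Subgroup.centralizer ({z} : Set G))) : G), c.2⟩
  have hm' : S.rhoHom ((c : ↥(Subgroup.centralizer ({z} : Set G))) ^ 2 ^ m) = 1 := by
    rw [map_pow]
    exact congrArg Subtype.val hm
  have hQ : ((c : ↥(Subgroup.centralizer ({z} : Set G))) : G) ^ 2 ^ m ∈ Q := by
    have h := (S.ρ_ker _ (Subgroup.mem_centralizer_singleton_iff.1
      ((c : ↥(Subgroup.centralizer ({z} : Set G))) ^ 2 ^ m).2)).1 hm'
    simpa using h
  have hQp : IsPGroup 2 Q := IsPGroup.of_card (n := 13) (by rw [S.card_Q])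
  obtain ⟨n, hn⟩ := hQp ⟨_, hQ⟩
  refine ⟨m + n, Subtype.ext (Subtype.ext ?_)⟩
  rw [pow_add, pow_mul]
  simpa using congrArg Subtype.val hn

/-- A Sylow 2-subgroup above the preimage meets the model inside the subgroup of order 128. -/
theorem sylow_above : ∃ T : Sylow 2 ↥(Subgroup.centralizer ({z} : Set G)),
    preS S ≤ (T : Subgroup ↥(Subgroup.centralizer ({z} : Set G))) ∧
    ∀ c ∈ (T : Subgroup ↥(Subgroup.centralizer ({z} : Set G))),
      S.ρ (c : G) ∈ Kl → S.ρ (c : G) ∈ Sgrp := by
  haveI : Fact (Nat.Prime 2) := ⟨Nat.prime_two⟩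
  obtain ⟨T, hT⟩ := (preS_isPGroup S).exists_le_sylow
  refine ⟨T, hT, fun c hc hK => ?_⟩
  set I := (T : Subgroup ↥(Subgroup.centralizer ({z} : Set G))).map S.rhoHom ⊓ Kl with hI
  have hle : Sgrp ≤ I := by
    intro a ha
    obtain ⟨g, hg, e⟩ := S.ρ_surj a (S_le ha)
    refine ⟨⟨⟨g, Subgroup.mem_centralizer_singleton_iff.2 hg⟩, hT ?_, e⟩, S_le ha⟩
    exact (mem_preS S).2 (e ▸ ha)
  have hp : IsPGroup 2 I := (T.isPGroup'.map S.rhoHom).to_le inf_le_left
  obtain ⟨n, hn⟩ := IsPGroup.iff_card.1 hp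
  have hdvd : Nat.card I ∣ 3 * 3265920 := card_Kl ▸ Subgroup.card_dvd_of_le inf_le_right
  rw [hn] at hdvd
  have h7 : n ≤ 7 := by
    by_contra h
    have := (Nat.pow_dvd_pow 2 (show 8 ≤ n by omega)).trans hdvd
    norm_num at this
  have e : Sgrp = I := Subgroup.eq_of_le_of_card_ge hle (by
    rw [card_S, hn]
    calc 2 ^ n ≤ 2 ^ 7 := Nat.pow_le_pow_right (by norm_num) h7
      _ = 128 := by norm_num)
  rw [e]
  exact ⟨⟨c, hc, rfl⟩, hK⟩

/-- In every Sylow 2-subgroup the elementary abelian subgroup of largest order is unique. -/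
theorem exists_unique_max {g : G} (hp : H92.PairSetting Q z g)
    (T : Sylow 2 ↥(Subgroup.centralizer ({z} : Set G))) :
    ∃ A : Subgroup ↥(T : Subgroup ↥(Subgroup.centralizer ({z} : Set G))),
      maxElementaryAbelianSubgroups 2 ↥(T : Subgroup ↥(Subgroup.centralizer ({z} : Set G))) = {A} ∧
      ∃ h : ↥(Subgroup.centralizer ({z} : Set G)),
        A.map (T : Subgroup ↥(Subgroup.centralizer ({z} : Set G))).subtype =
          ((Aelem S).subgroupOf (Subgroup.centralizer ({z} : Set G))).map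
            (MulAut.conj h).toMonoidHom := by
  classical
  haveI : Fact (Nat.Prime 2) := ⟨Nat.prime_two⟩
  obtain ⟨T0, hpre, hlin⟩ := sylow_above S
  obtain ⟨h, hh⟩ := MulAction.exists_smul_eq ↥(Subgroup.centralizer ({z} : Set G)) T0 T
  have hT : (T : Subgroup ↥(Subgroup.centralizer ({z} : Set G))) = (T0 : Subgroup ↥(Subgroup.centralizer ({z} : Set G))).map (MulAut.conj h).toMonoidHom := by
    rw [← hh]
    rfl
  have hAC : Aelem S ≤ (Subgroup.centralizer ({z} : Set G)) := fun a ha =>
    Subgroup.mem_centralizer_singleton_iff.2 ((mem_Aelem S).1 ha).1.1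
  have hA0 : (Aelem S).subgroupOf (Subgroup.centralizer ({z} : Set G)) ≤ (T0 : Subgroup ↥(Subgroup.centralizer ({z} : Set G))) := fun a ha =>
    hpre ((mem_preS S).2 (B_le_S ((mem_Aelem S).1 ha).1.2))
  set AC := ((Aelem S).subgroupOf (Subgroup.centralizer ({z} : Set G))).map (MulAut.conj h).toMonoidHom with hACdef
  have hACT : AC ≤ (T : Subgroup ↥(Subgroup.centralizer ({z} : Set G))) := hT ▸ Subgroup.map_mono hA0
  have hACel : IsElementaryAbelian 2 AC := by
    rw [hACdef, isElementaryAbelian_map _ (MulAut.conj h).injective,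
      ← isElementaryAbelian_map (Subgroup.centralizer ({z} : Set G)).subtype (Subgroup.centralizer ({z} : Set G)).subtype_injective,
      Subgroup.map_subgroupOf_eq_of_le hAC]
    exact A_elementary S
  have hACcard : Nat.card AC = 2 ^ 11 := by
    rw [hACdef, card_map_inj _ (MulAut.conj h).injective,
      Nat.card_congr (Subgroup.subgroupOfEquivOfLe hAC).toEquiv, card_A]
  -- the bound
  have key : ∀ P : Subgroup ↥(T : Subgroup ↥(Subgroup.centralizer ({z} : Set G))), IsElementaryAbelian 2 P →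
      2 ^ 11 ≤ Nat.card P → P.map (T : Subgroup ↥(Subgroup.centralizer ({z} : Set G))).subtype = AC := by
    intro P hP hcard
    set EC := (P.map (T : Subgroup ↥(Subgroup.centralizer ({z} : Set G))).subtype).map (MulAut.conj h⁻¹).toMonoidHom with hEC
    have hEC0 : EC ≤ (T0 : Subgroup ↥(Subgroup.centralizer ({z} : Set G))) := by
      rintro _ ⟨_, ⟨p, -, rfl⟩, rfl⟩
      have hp' : (p : ↥(Subgroup.centralizer ({z} : Set G))) ∈ (T0 : Subgroup ↥(Subgroup.centralizer ({z} : Set G))).map (MulAut.conj h).toMonoidHom := hT ▸ p.2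
      obtain ⟨q, hq, e⟩ := hp'
      show h⁻¹ * (p : ↥(Subgroup.centralizer ({z} : Set G))) * h⁻¹⁻¹ ∈ (T0 : Subgroup ↥(Subgroup.centralizer ({z} : Set G)))
      rw [← e]
      show h⁻¹ * (h * q * h⁻¹) * h⁻¹⁻¹ ∈ (T0 : Subgroup ↥(Subgroup.centralizer ({z} : Set G)))
      rw [show h⁻¹ * (h * q * h⁻¹) * h⁻¹⁻¹ = q by group]
      exact hq
    have hE : IsElementaryAbelian 2 (EC.map (Subgroup.centralizer ({z} : Set G)).subtype) := by
      rw [isElementaryAbelian_map _ (Subgroup.centralizer ({z} : Set G)).subtype_injective, hEC,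
        isElementaryAbelian_map _ (MulAut.conj h⁻¹).injective,
        isElementaryAbelian_map _ (T : Subgroup ↥(Subgroup.centralizer ({z} : Set G))).subtype_injective]
      exact hP
    have hEq : EC.map (Subgroup.centralizer ({z} : Set G)).subtype = Aelem S := by
      refine eq_A S hp hE ?_ ?_ ?_
      · rintro _ ⟨c, -, rfl⟩
        exact Subgroup.mem_centralizer_singleton_iff.1 c.2
      · rintro _ ⟨c, hc, rfl⟩ hK
        exact hlin c (hEC0 hc) hK
      · rw [card_map_inj _ (Subgroup.centralizer ({z} : Set G)).subtype_injective, hEC, card_map_inj _ (MulAut.conj h⁻¹).injective,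
          card_map_inj _ (T : Subgroup ↥(Subgroup.centralizer ({z} : Set G))).subtype_injective]
        exact hcard
    have hECA : EC = (Aelem S).subgroupOf (Subgroup.centralizer ({z} : Set G)) := by
      rw [← hEq, Subgroup.subgroupOf, Subgroup.comap_map_eq_self_of_injective (Subgroup.centralizer ({z} : Set G)).subtype_injective]
    rw [hACdef, ← hECA, hEC, Subgroup.map_map]
    ext x
    simp only [Subgroup.mem_map, MonoidHom.coe_comp, Function.comp_apply, MulEquiv.coe_toMonoidHom,
      MulAut.conj_apply]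
    constructor
    · rintro ⟨y, hy, rfl⟩
      exact ⟨(T : Subgroup ↥(Subgroup.centralizer ({z} : Set G))).subtype y, ⟨y, hy, rfl⟩, by group⟩
    · rintro ⟨_, ⟨y, hy, rfl⟩, rfl⟩
      exact ⟨y, hy, by group⟩
  set A := AC.subgroupOf (T : Subgroup ↥(Subgroup.centralizer ({z} : Set G))) with hAdef
  have hAmap : A.map (T : Subgroup ↥(Subgroup.centralizer ({z} : Set G))).subtype = AC := Subgroup.map_subgroupOf_eq_of_le hACT
  have hAel : IsElementaryAbelian 2 A := by
    rw [← isElementaryAbelian_map _ (T : Subgroup ↥(Subgroup.centralizer ({z} : Set G))).subtype_injective, hAmap]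
    exact hACel
  have hAcard : Nat.card A = 2 ^ 11 := by
    rw [← card_map_inj _ (T : Subgroup ↥(Subgroup.centralizer ({z} : Set G))).subtype_injective A, hAmap, hACcard]
  refine ⟨A, ?_, h, hAmap⟩
  ext P
  rw [Set.mem_singleton_iff]
  constructor
  · rintro ⟨hPel, hPmax⟩
    have h11 : 2 ^ 11 ≤ Nat.card P := hAcard ▸ hPmax A hAel
    exact Subgroup.map_injective (T : Subgroup ↥(Subgroup.centralizer ({z} : Set G))).subtype_injective
      ((key P hPel h11).trans hAmap.symm)
  · rintro rfl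
    refine ⟨hAel, fun P hPel => ?_⟩
    by_contra hlt
    have e := key P hPel (by omega)
    rw [← hAmap] at e
    rw [Subgroup.map_injective (T : Subgroup ↥(Subgroup.centralizer ({z} : Set G))).subtype_injective e] at hlt
    exact hlt le_rfl

end Cfsg.Agent.H43.LFi
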