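import Cfsg.Agent.H43.LFi.Lift
import Cfsg.Agent.H41.LFi.Pair

/-!
Groups of large Fischer type: an elementary abelian subgroup of order at least `2 ^ 11` of the
centraliser of the central involution whose image meets the model inside the subgroup of order 128
is the one over the second group of order sixteen.
-/

set_option autoImplicit false
set_option maxRecDepth 20000

namespace Cfsg.Agent.H43.LFi

open Cfsg Cfsg.Agent.Compute Cfsg.Agent.Unitary Cfsg.Agent.H41.SUSix Cfsg.Agent.H41.LFi Matrix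

attribute [local irreducible] mC sigC bIdx wApC mulVecC wP eP uC

/-- No permutation is semilinear for both automorphisms. -/
theorem semi_not_both {a : Equiv.Perm Vec} (hf : Semi false a) (ht : Semi true a) : False := by
  have h := (hf.smul ω₄ (a.symm r85)).symm.trans (ht.smul ω₄ (a.symm r85))
  simp only [Equiv.apply_symm_apply] at h
  have e : ω₄ * dV 85 (0 : Fin 6) ≠ ω₄ * ω₄ * dV 85 (0 : Fin 6) := by decide +kernel
  exact e (congrFun h 0)

theorem oP_notMem_Kl (j : ℕ) : oP j ∉ Kl := fun h => semi_not_both (semi_of_mem_Kl h) (semi_oP j)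

theorem indep {u v : Vec} {a : Equiv.Perm Vec} (ha : Semi true a) (hu : a u = u) (hv : a v = v)
    (h : u + ω₄ • v = 0) : u = 0 ∧ v = 0 := by
  have h' : u + (ω₄ * ω₄) • v = 0 := by
    have e := congrArg a h
    rw [ha.add, ha.smul, hu, hv, ha.map_zero] at e
    exact e
  have key : ∀ x y : K4, x + ω₄ * y = 0 → x + ω₄ * ω₄ * y = 0 → x = 0 ∧ y = 0 := by decide +kernel
  exact ⟨funext fun i => (key _ _ (congrFun h i) (congrFun h' i)).1,
    funext fun i => (key _ _ (congrFun h i) (congrFun h' i)).2⟩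

variable {G : Type*} [Group G] [Finite G] {z : G} {Q : Subgroup G} (S : LSetup z Q)

/-- The elements outside the model act semilinearly. -/
theorem semi_true_of_outer {g : G} (hp : H92.PairSetting Q z g) {c : G} (hc : c * z = z * c)
    (hK : S.ρ c ∉ Kl) : Semi true (S.ρ c) := by
  obtain ⟨k, hk, ek⟩ := transitive (Or.inr rfl) (S.cls_eq_three hp)
  have hmem : k * oP 0 * k⁻¹ ∈ S.imgE g := by
    rw [(S.shape hp hk ek).img]
    exact ⟨oP 0, oP_mem_E (by norm_num), rfl⟩
  obtain ⟨w, hw, ew⟩ := S.mem_imgE.1 hmem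
  have hwK : S.ρ w ∉ Kl := by
    rw [ew, Subgroup.mul_mem_cancel_right _ (inv_mem hk), Subgroup.mul_mem_cancel_left _ hk]
    exact oP_notMem_Kl 0
  have hsw : Semi true (S.ρ w) := by
    rw [ew]
    exact ((semi_of_mem_Kl hk).comp (semi_oP 0)).comp (semi_of_mem_Kl (inv_mem hk))
  obtain ⟨θ, hθ⟩ := S.ρ_semi c hc
  cases θ
  · exfalso
    exact semi_not_both (semi_of_mem_Kl (S.two_elts hc (LSetup.sideW_z hw) hK hwK)) (hθ.comp hsw)
  · exact hθ

/-- The case of a subgroup containing the central involution. -/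
theorem eq_A_of_mem {g : G} (hp : H92.PairSetting Q z g) {E : Subgroup G}
    (hE : IsElementaryAbelian 2 E) (hz : z ∈ E)
    (hS : ∀ e ∈ E, S.ρ e ∈ Kl → S.ρ e ∈ Sgrp) (hcard : 2 ^ 11 ≤ Nat.card E) : E = Aelem S := by
  classical
  obtain ⟨hcomm', hsq'⟩ := hE
  have hsq : ∀ a ∈ E, a * a = 1 := fun a ha => by rw [← pow_two]; exact hsq' a ha
  have hcomm : ∀ a ∈ E, ∀ b ∈ E, a * b = b * a := fun a ha b hb =>
    congrArg Subtype.val (hcomm'.is_comm.comm ⟨a, ha⟩ ⟨b, hb⟩)
  have hcz : ∀ a ∈ E, a * z = z * a := fun a ha => hcomm a ha z hz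
  set W := S.piImage (E ⊓ Q) inf_le_right with hW
  have hWcard := S.card_piImage (E ⊓ Q) inf_le_right ⟨hz, S.hzQ⟩
  have hW64 : Nat.card W ≤ 64 := isotropic_bound (by
    rintro _ ⟨a, ha, rfl⟩
    exact S.wt_zero_of_sq ha.2 (hsq a ha.1))
  have hWpos : 0 < Nat.card W := Nat.card_pos
  let φ : ↥E →* Equiv.Perm Vec := MonoidHom.mk' (fun a => S.ρ a) fun a b =>
    S.ρ_mul a b (hcz a a.2) (hcz b b.2)
  have hφ : Nat.card E = 2 * Nat.card W * Nat.card φ.range := by
    have hk : φ.ker = (E ⊓ Q).subgroupOf E := by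
      ext a
      rw [MonoidHom.mem_ker, Subgroup.mem_subgroupOf, Subgroup.mem_inf, and_iff_right a.2]
      exact S.ρ_ker a (hcz a a.2)
    rw [← Subgroup.card_mul_index φ.ker, Subgroup.index_ker, hk,
      Nat.card_congr (Subgroup.subgroupOfEquivOfLe inf_le_left).toEquiv, hWcard]
  have hfix : ∀ r ∈ φ.range, ∀ w ∈ W, r w = w := by
    rintro _ ⟨e, rfl⟩ _ ⟨q, hq, rfl⟩
    show S.ρ (e : G) (S.π q) = S.π q
    rw [← S.ρ_π e (hcz e e.2) q hq.2, hcomm e e.2 q hq.1, mul_inv_cancel_right]
  set R0 := φ.range ⊓ Kl with hR0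
  have hR0S : R0 ≤ Sgrp := by
    rintro r ⟨⟨e, rfl⟩, hK⟩
    exact hS e e.2 hK
  have hR0c : ∀ a ∈ R0, ∀ b ∈ R0, a * b = b * a := by
    rintro _ ⟨⟨a, rfl⟩, -⟩ _ ⟨⟨b, rfl⟩, -⟩
    rw [← map_mul, ← map_mul]
    exact congrArg φ (Subtype.ext (hcomm a a.2 b b.2))
  have hR02 : ∀ a ∈ R0, a * a = 1 := by
    rintro _ ⟨⟨a, rfl⟩, -⟩
    rw [← map_mul, show a * a = 1 from Subtype.ext (hsq a a.2), map_one]
  have hR016 : Nat.card R0 ≤ 16 := by
    by_contra h
    have := (classify hR0S hR0c hR02 (by omega)).1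
    omega
  by_cases hlin : φ.range ≤ Kl
  · have hR : R0 = φ.range := inf_eq_left.2 hlin
    have hWeq : Nat.card W = 64 := by
      rw [← hR] at hφ
      have h1 := Nat.mul_le_mul (le_refl (2 * Nat.card W)) hR016
      omega
    have hR16 : Nat.card R0 = 16 := by
      rw [← hR, hWeq] at hφ
      omega
    obtain ⟨-, hB | hA⟩ := classify hR0S hR0c hR02 hR16.ge
    · have hWU : W ≤ Uset := fun w hw => mem_U.2 fun i => hfix _
        (hR ▸ hB.symm ▸ (⟨2 ^ i.1, two_pow_lt i.2, rfl⟩ : eP (bIdx (2 ^ i.1)) ∈ Bgrp)) w hw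
      have hWeq' : W = Uset := AddSubgroup.eq_of_le_of_card_ge hWU (by rw [card_U, hWeq])
      have hle : piU S ≤ E := by
        intro q hq
        obtain ⟨r, hr, er⟩ : S.π q ∈ W := hWeq'.symm ▸ hq.2
        rcases S.π_eq hr.2 hq.1 er with e | e
        · rw [e]; exact hr.1
        · rw [e]; exact mul_mem hz hr.1
      have hEA : E ≤ Aelem S := fun e he => (mem_Aelem S).2
        ⟨⟨hcz e he, hB ▸ hR.symm ▸ (⟨⟨e, he⟩, rfl⟩ : S.ρ e ∈ φ.range)⟩,
          fun q hq => hcomm q (hle hq) e he⟩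
      exact Subgroup.eq_of_le_of_card_ge hEA (by rw [card_A]; exact hcard)
    · exfalso
      have : Nat.card W ≤ 16 := le_trans (Nat.card_le_card_of_injective
        (fun w => (⟨w.1, fun k hk => hfix _ (hR ▸ hA k hk) w.1 w.2⟩ :
          ↥{u : Vec | ∀ k < 16, eP k u = u}))
        fun a b e => Subtype.ext (congrArg Subtype.val e :)) fix_A
      omega
  · exfalso
    obtain ⟨a, ⟨e0, rfl⟩, haK⟩ := SetLike.not_le_iff_exists.1 hlin
    have hsemi := semi_true_of_outer S hp (hcz e0 e0.2) haK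
    have hRle : Nat.card φ.range ≤ Nat.card R0 * 2 := by
      have hj : ∀ x : ↥φ.range, (if (x : Equiv.Perm Vec) ∈ Kl then (x : Equiv.Perm Vec)
          else φ e0 * x) ∈ R0 := by
        intro x
        split_ifs with hx
        · exact ⟨x.2, hx⟩
        · obtain ⟨e1, he1⟩ := x.2
          refine ⟨mul_mem ⟨e0, rfl⟩ x.2, ?_⟩
          rw [← he1]
          exact S.two_elts (hcz e0 e0.2) (hcz e1 e1.2) haK (fun h => hx (he1 ▸ h))
      have := Nat.card_le_card_of_injective
        (fun x => ((⟨_, hj x⟩ : ↥R0), decide ((x : Equiv.Perm Vec) ∈ Kl)))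
        (fun x y e => by
          have e1 : (if (x : Equiv.Perm Vec) ∈ Kl then (x : Equiv.Perm Vec) else φ e0 * x) =
              (if (y : Equiv.Perm Vec) ∈ Kl then (y : Equiv.Perm Vec) else φ e0 * y) :=
            congrArg (fun p : ↥R0 × Bool => (p.1 : Equiv.Perm Vec)) e
          have e2 : decide ((x : Equiv.Perm Vec) ∈ Kl) = decide ((y : Equiv.Perm Vec) ∈ Kl) :=
            congrArg Prod.snd e
          rw [decide_eq_decide] at e2
          refine Subtype.ext ?_
          by_cases hx : (x : Equiv.Perm Vec) ∈ Kl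
          · rwa [if_pos hx, if_pos (e2.1 hx)] at e1
          · rw [if_neg hx, if_neg (fun hy => hx (e2.2 hy))] at e1
            exact mul_left_cancel e1)
      rwa [Nat.card_prod, Nat.card_eq_fintype_card (α := Bool), Fintype.card_bool] at this
    by_cases hbot : R0 = ⊥
    · rw [hbot, Subgroup.card_bot] at hRle
      have := Nat.mul_le_mul (Nat.mul_le_mul (le_refl 2) hW64) hRle
      omega
    · obtain ⟨r, hr, hr1⟩ := R0.ne_bot_iff_exists_ne_one.1 hbot |>.elim
        (fun x hx => ⟨x.1, x.2, fun h => hx (Subtype.ext h)⟩ :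
          ∀ x : ↥R0, x ≠ 1 → ∃ r ∈ R0, r ≠ 1)
      obtain ⟨k, hk, rfl⟩ := hR0S hr
      have hk0 : k ≠ 0 := fun h => hr1 (by rw [h, eP_zero])
      have hfix256 := fix_invol hk hk0 (hR02 _ hr)
      have hWsq : Nat.card W * Nat.card W ≤ 256 := by
        refine le_trans ?_ hfix256
        rw [← Nat.card_prod]
        refine Nat.card_le_card_of_injective
          (fun p => (⟨(p.1 : Vec) + ω₄ • (p.2 : Vec), ?_⟩ : ↥{u : Vec | eP k u = u})) ?_
        · show eP k ((p.1 : Vec) + ω₄ • (p.2 : Vec)) = _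
          rw [(semi_eP k).add, (semi_eP k).smul, hfix _ hr.1 _ p.1.2, hfix _ hr.1 _ p.2.2]
          rfl
        · rintro ⟨u1, v1⟩ ⟨u2, v2⟩ e
          have e' : (u1 : Vec) + ω₄ • (v1 : Vec) = (u2 : Vec) + ω₄ • (v2 : Vec) :=
            congrArg Subtype.val e
          have h0 : ((u1 : Vec) + u2) + ω₄ • ((v1 : Vec) + v2) = 0 := by
            rw [smul_add, add_add_add_comm, e', vec_add_self]
          obtain ⟨h1, h2⟩ := indep hsemi (hfix _ ⟨e0, rfl⟩ _ (W.add_mem u1.2 u2.2))
            (hfix _ ⟨e0, rfl⟩ _ (W.add_mem v1.2 v2.2)) h0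
          exact Prod.ext (Subtype.ext (vec_eq_of_add h1)) (Subtype.ext (vec_eq_of_add h2))
      have hW16 : Nat.card W ≤ 16 := by
        by_contra h
        have := Nat.mul_le_mul (show 17 ≤ Nat.card W by omega) (show 17 ≤ Nat.card W by omega)
        omega
      have h32 : Nat.card φ.range ≤ 32 := by omega
      have := Nat.mul_le_mul (Nat.mul_le_mul (le_refl 2) hW16) h32
      omega

/-- An elementary abelian subgroup of order at least `2 ^ 11` is the given one. -/
theorem eq_A {g : G} (hp : H92.PairSetting Q z g) {E : Subgroup G}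
    (hE : IsElementaryAbelian 2 E) (hc : ∀ e ∈ E, e * z = z * e)
    (hS : ∀ e ∈ E, S.ρ e ∈ Kl → S.ρ e ∈ Sgrp) (hcard : 2 ^ 11 ≤ Nat.card E) : E = Aelem S := by
  obtain ⟨hcomm', hsq'⟩ := hE
  have hcomm : ∀ a ∈ E, ∀ b ∈ E, a * b = b * a := fun a ha b hb =>
    congrArg Subtype.val (hcomm'.is_comm.comm ⟨a, ha⟩ ⟨b, hb⟩)
  have hzz : z * z = 1 := S.z_sq
  let E' : Subgroup G :=
    { carrier := {x | x ∈ E ∨ x * z ∈ E}
      one_mem' := Or.inl E.one_mem
      mul_mem' := by
        rintro a b (ha | ha) (hb | hb)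
        · exact Or.inl (mul_mem ha hb)
        · exact Or.inr (by rw [mul_assoc]; exact mul_mem ha hb)
        · refine Or.inr ?_
          have := mul_mem ha hb
          rwa [mul_assoc, ← hc b hb, ← mul_assoc] at this
        · refine Or.inl ?_
          have := mul_mem ha hb
          have e : a * z * (b * z) = a * b := by
            have hb' : b * z * z = z * (b * z) := hc _ hb
            rw [mul_assoc b z z, hzz, mul_one] at hb'
            calc a * z * (b * z) = a * (z * (b * z)) := mul_assoc _ _ _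
              _ = a * b := by rw [← hb']
          rwa [e] at this
      inv_mem' := by
        rintro a (ha | ha)
        · exact Or.inl (inv_mem ha)
        · refine Or.inr ?_
          have e : (a * z)⁻¹ = a⁻¹ * z := by
            have h1 : a * z * z = z * (a * z) := hc _ ha
            rw [mul_assoc a z z, hzz, mul_one] at h1
            have hzi : z⁻¹ = z := inv_eq_of_mul_eq_one_right hzz
            have h2 : a * z = z * a := by
              conv_lhs => rw [h1]
              rw [mul_assoc, mul_assoc, hzz, mul_one]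
            rw [show (a * z)⁻¹ = z⁻¹ * a⁻¹ from _root_.mul_inv_rev a z, hzi]
            exact (S.z_comm_inv h2).symm
          rw [← e]
          exact inv_mem ha }
  have hcl : ∀ x : G, x ∈ E' → x * z = z * x ∧ ∃ e ∈ E, ∃ t : G, (t = 1 ∨ t = z) ∧ x = e * t := by
    rintro x (hx | hx)
    · exact ⟨hc x hx, x, hx, 1, Or.inl rfl, (mul_one x).symm⟩
    · have e : x = x * z * z := by rw [mul_assoc, hzz, mul_one]
      refine ⟨?_, x * z, hx, z, Or.inr rfl, e⟩
      have := hc _ hx
      rw [← e] at this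
      conv_lhs => rw [this]
      rw [mul_assoc, mul_assoc, hzz, mul_one]
  have hz1 : ∀ {t : G}, (t = 1 ∨ t = z) → t * t = 1 := by
    rintro t (rfl | rfl)
    · rw [one_mul]
    · exact hzz
  have hz2 : ∀ {t : G}, (t = 1 ∨ t = z) → ∀ e ∈ E, e * t = t * e := by
    rintro t (rfl | rfl) e he
    · rw [mul_one, one_mul]
    · exact hc e he
  have hsq2 : ∀ x ∈ E', x * x = 1 := by
    intro x hx
    obtain ⟨-, e, he, t, ht, rfl⟩ := hcl x hx
    calc e * t * (e * t) = e * (t * e) * t := by group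
      _ = (e * e) * (t * t) := by rw [← hz2 ht e he]; group
      _ = 1 := by rw [hz1 ht, mul_one, ← pow_two]; exact hsq' e he
  have hE' : IsElementaryAbelian 2 E' := by
    refine ⟨⟨⟨fun a b => Subtype.ext ?_⟩⟩, fun a ha => by rw [pow_two]; exact hsq2 a ha⟩
    have e := hsq2 _ (mul_mem a.2 b.2)
    have ea := inv_eq_of_mul_eq_one_right (hsq2 _ a.2)
    have eb := inv_eq_of_mul_eq_one_right (hsq2 _ b.2)
    show (a : G) * b = b * a
    calc (a : G) * b = ((a : G) * b)⁻¹ := (inv_eq_of_mul_eq_one_right e).symm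
      _ = b * a := by rw [_root_.mul_inv_rev, ea, eb]
  have hle : E ≤ E' := fun x hx => Or.inl hx
  have hz : z ∈ E' := Or.inr (by rw [hzz]; exact E.one_mem)
  have e' := eq_A_of_mem S hp hE' hz (fun x hx hK => by
    obtain ⟨-, e, he, t, ht, rfl⟩ := hcl x hx
    have htz : t * z = z * t := by rcases ht with rfl | rfl <;> simp
    have ht1 : S.ρ t = 1 := by
      refine (S.ρ_ker t htz).2 ?_
      rcases ht with rfl | rfl
      · exact Q.one_mem
      · exact S.hzQ
    rw [S.ρ_mul e t (hc e he) htz, ht1, mul_one] at hK ⊢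
    exact hS e he hK)
    (hcard.trans (Nat.card_le_card_of_injective _ (Subgroup.inclusion_injective hle)))
  exact Subgroup.eq_of_le_of_card_ge (e' ▸ hle) (by rw [card_A]; exact hcard)

end Cfsg.Agent.H43.LFi
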